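import Cfsg.Agent.Coprime.FpfElem
import Mathlib.GroupTheory.SemidirectProduct
import Mathlib.GroupTheory.SpecificGroups.Cyclic
import Mathlib.GroupTheory.PGroup

/-!
An odd solvable group of automorphisms of a finite abelian group: vocabulary and elementary tools for the
lemma on the singular characters (notes/helper76_bridge.md, 3(b), 3(c)).
-/

set_option autoImplicit false
set_option linter.unusedSectionVars false

namespace Cfsg.Agent.Bridge.BLemma

open Subgroup

variable {F B : Type*} [CommGroup F] [Group B] (φ : B →* MulAut F)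

/-- The fixed points of `b`. -/
def fixBy (b : B) : Subgroup F where
  carrier := {a | φ b a = a}
  one_mem' := map_one (φ b)
  mul_mem' := fun {a c} (ha : φ b a = a) (hc : φ b c = c) => show φ b (a * c) = a * c by
    rw [map_mul, ha, hc]
  inv_mem' := fun {a} (ha : φ b a = a) => show φ b a⁻¹ = a⁻¹ by rw [map_inv, ha]

/-- `a ↦ b(a) / a`. -/
def delta (b : B) : F →* F where
  toFun a := φ b a / a
  map_one' := by simp
  map_mul' a c := by rw [map_mul]; exact mul_div_mul_comm _ _ _ _

/-- The hypotheses supplied by the geometry. -/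
structure Hyp [Finite B] : Prop where
  inj : Function.Injective φ
  odd : Odd (Nat.card B)
  solvable : Group.IsSolvable B
  cyc : ∀ b : B, b ≠ 1 → IsCyclic (fixBy φ b)
  galois : ∀ z g h : B, z ≠ 1 → Commute g z → Commute h z → (∀ a ∈ fixBy φ z, φ g a = a → a = 1) →
    ∃ n : ℕ, ∀ a ∈ fixBy φ z, φ h a = φ (g ^ n) a
  goodPow : ∀ (x : B) (q k : ℕ), q.Prime → orderOf x = q ^ k → ∀ w ∈ zpowers x, w ≠ 1 →
    fixBy φ w ≠ ⊥ → x ∈ commutator B
  centre : ∀ (q : ℕ) [Fact q.Prime] (Q : Sylow q B), ∀ w ∈ (Q : Subgroup B),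
    (∀ x ∈ (Q : Subgroup B), Commute x w) → w ≠ 1 → fixBy φ w ≠ ⊥ → (Q : Subgroup B) ≤ commutator B

@[simp]
theorem mem_fixBy {b : B} {a : F} : a ∈ fixBy φ b ↔ φ b a = a := Iff.rfl

theorem delta_apply (b : B) (a : F) : delta φ b a = φ b a / a := rfl

theorem delta_eq_one_iff {b : B} {a : F} : delta φ b a = 1 ↔ a ∈ fixBy φ b := by
  rw [delta_apply, div_eq_one, mem_fixBy]

theorem apply_mul (g h : B) (a : F) : φ (g * h) a = φ g (φ h a) := by rw [map_mul, MulAut.mul_apply]

theorem apply_one (a : F) : φ 1 a = a := by rw [map_one, MulAut.one_apply]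

theorem mem_fixBy_one (a : F) : a ∈ fixBy φ 1 := apply_one φ a

theorem fixBy_le_pow (b : B) (n : ℕ) : fixBy φ b ≤ fixBy φ (b ^ n) := by
  intro a ha
  induction n with
  | zero => rw [pow_zero]; exact mem_fixBy_one φ a
  | succ n ih =>
    rw [mem_fixBy, pow_succ, apply_mul, (mem_fixBy φ).mp ha]
    exact ih

theorem mem_fixBy_mul {g h : B} {a : F} (hg : a ∈ fixBy φ g) (hh : a ∈ fixBy φ h) :
    a ∈ fixBy φ (g * h) := by
  rw [mem_fixBy, apply_mul, (mem_fixBy φ).mp hh, (mem_fixBy φ).mp hg]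

theorem map_mem_fixBy {g b : B} {a : F} (ha : a ∈ fixBy φ b) : φ g a ∈ fixBy φ (g * b * g⁻¹) := by
  rw [mem_fixBy, ← apply_mul, show g * b * g⁻¹ * g = g * b by group, apply_mul, (mem_fixBy φ).mp ha]

theorem map_mem_fixBy_of_commute {g b : B} (hc : Commute g b) {a : F} (ha : a ∈ fixBy φ b) :
    φ g a ∈ fixBy φ b := by
  have := map_mem_fixBy φ (g := g) ha
  rwa [hc.eq, mul_inv_cancel_right] at this

theorem map_mem_fixBy_of_conj {g b : B} {n : ℕ} (hc : (g * b * g⁻¹) ^ n = b) {a : F}
    (ha : a ∈ fixBy φ b) : φ g a ∈ fixBy φ b := by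
  have h := fixBy_le_pow φ (g * b * g⁻¹) n (map_mem_fixBy φ (g := g) ha)
  rwa [hc] at h

variable {φ}

theorem eq_one_of_fixBy_top (hinj : Function.Injective φ) {b : B} (h : fixBy φ b = ⊤) : b = 1 :=
  hinj (MulEquiv.ext fun a => by
    rw [map_one, MulAut.one_apply]
    exact (mem_fixBy φ).mp (h ▸ mem_top a))

variable (φ)

theorem delta_comm {g h : B} (hc : Commute g h) (a : F) :
    delta φ g (delta φ h a) = delta φ h (delta φ g a) := by
  simp only [delta_apply, map_div, ← apply_mul, hc.eq]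
  exact div_div_div_comm _ _ _ _

theorem range_delta_pow_le (g : B) (n : ℕ) : (delta φ (g ^ n)).range ≤ (delta φ g).range := by
  induction n with
  | zero =>
    rintro _ ⟨a, rfl⟩
    rw [pow_zero, delta_apply, apply_one, div_self']
    exact one_mem _
  | succ n ih =>
    rintro _ ⟨a, rfl⟩
    have h : delta φ (g ^ (n + 1)) a = delta φ g (φ (g ^ n) a) * delta φ (g ^ n) a := by
      rw [delta_apply, delta_apply, delta_apply, ← apply_mul, ← pow_succ']
      exact (div_mul_div_cancel _ _ _).symm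
    rw [h]
    exact mul_mem ⟨_, rfl⟩ (ih ⟨a, rfl⟩)

theorem range_delta_eq_top [Finite F] {g : B} (h : fixBy φ g = ⊥) : (delta φ g).range = ⊤ := by
  rw [MonoidHom.range_eq_top]
  refine Finite.injective_iff_surjective.mp ((injective_iff_map_eq_one _).mpr fun a ha => ?_)
  exact (mem_bot).mp (h ▸ (delta_eq_one_iff φ).mp ha)

/-- If `g(a) = a c` with `c` fixed by `g` and `g ^ n = 1`, then `c ^ n = 1`. -/
theorem pow_eq_one_of_delta_fixed {g : B} {n : ℕ} (hn : g ^ n = 1) {a : F}
    (hc : delta φ g a ∈ fixBy φ g) : delta φ g a ^ n = 1 := by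
  have h : ∀ m : ℕ, φ (g ^ m) a = a * delta φ g a ^ m := by
    intro m
    induction m with
    | zero => rw [pow_zero, pow_zero, apply_one, mul_one]
    | succ m ih =>
      rw [pow_succ' g, apply_mul, ih, map_mul, map_pow, (mem_fixBy φ).mp hc, delta_apply, pow_succ',
        ← mul_assoc, mul_div_cancel]
  have h1 := h n
  rw [hn, apply_one] at h1
  exact mul_left_cancel (h1.symm.trans (mul_one a).symm)

/-! ### Norms -/

variable (q : ℕ) [NeZero q]

/-- `g ^ i` for a residue `i` modulo `q`. -/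
def zpw (g : B) (i : ZMod q) : B := g ^ i.val

/-- The product of the translates of `a` under the powers of `g`. -/
def nrm (g : B) (a : F) : F := ∏ i : ZMod q, φ (zpw q g i) a

variable {q}

theorem zpw_natCast {g : B} (hg : g ^ q = 1) (n : ℕ) : zpw q g n = g ^ n := by
  rw [zpw, ZMod.val_natCast]
  exact (pow_eq_pow_mod n hg).symm

theorem zpw_zero (g : B) : zpw q g 0 = 1 := by rw [zpw, ZMod.val_zero, pow_zero]

theorem zpw_add {g : B} (hg : g ^ q = 1) (i j : ZMod q) : zpw q g (i + j) = zpw q g i * zpw q g j := by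
  have h : i + j = ((i.val + j.val : ℕ) : ZMod q) := by simp
  rw [h, zpw_natCast hg, pow_add]
  rfl

theorem zpw_mul {g : B} (hg : g ^ q = 1) (i j : ZMod q) :
    zpw q g (i * j) = zpw q g i ^ j.val := by
  have h : i * j = ((i.val * j.val : ℕ) : ZMod q) := by simp
  rw [h, zpw_natCast hg, pow_mul]
  rfl

theorem zpw_one {g : B} (hg : g ^ q = 1) : zpw q g 1 = g := by
  rw [← Nat.cast_one, zpw_natCast hg, pow_one]

theorem commute_zpw {g h : B} (hc : Commute g h) (i j : ZMod q) : Commute (zpw q g i) (zpw q h j) :=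
  hc.pow_pow _ _

theorem zpw_pow {g : B} (hg : g ^ q = 1) (i : ZMod q) (n : ℕ) :
    zpw q g i ^ n = zpw q g (i * (n : ZMod q)) := by
  rw [show i * (n : ZMod q) = ((i.val * n : ℕ) : ZMod q) by simp, zpw_natCast hg, pow_mul]
  rfl

theorem apply_nrm {g : B} (hg : g ^ q = 1) (a : F) : φ g (nrm φ q g a) = nrm φ q g a := by
  rw [nrm, map_prod]
  refine Fintype.prod_equiv (Equiv.addLeft 1) _ _ fun i => ?_
  rw [Equiv.coe_addLeft, zpw_add hg, zpw_one hg, apply_mul]

theorem nrm_mem_fixBy {g : B} (hg : g ^ q = 1) (a : F) : nrm φ q g a ∈ fixBy φ g := apply_nrm φ hg a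

theorem nrm_of_mem {g : B} {a : F} (ha : a ∈ fixBy φ g) : nrm φ q g a = a ^ q := by
  rw [nrm, Finset.prod_congr rfl fun i _ => (mem_fixBy φ).mp (fixBy_le_pow φ g i.val ha),
    Finset.prod_const, Finset.card_univ, ZMod.card]

theorem nrm_mem {g : B} {S : Subgroup F} (hS : ∀ c ∈ S, φ g c ∈ S) {a : F} (ha : a ∈ S) :
    nrm φ q g a ∈ S := by
  refine prod_mem fun i _ => ?_
  unfold zpw
  induction i.val with
  | zero => rwa [pow_zero, apply_one]
  | succ n ih => rw [pow_succ', apply_mul]; exact hS _ ih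

theorem map_nrm {g h : B} (hc : Commute h g) (a : F) : φ h (nrm φ q g a) = nrm φ q g (φ h a) := by
  rw [nrm, nrm, map_prod]
  refine Finset.prod_congr rfl fun i _ => ?_
  rw [← apply_mul, ← apply_mul, zpw, (hc.pow_right _).eq]

theorem nrm_prod {ι : Type*} (s : Finset ι) (g : B) (f : ι → F) :
    nrm φ q g (∏ i ∈ s, f i) = ∏ i ∈ s, nrm φ q g (f i) := by
  simp only [nrm, map_prod]
  exact Finset.prod_comm

/-- In a plane `⟨e, h⟩` of exponent `q` all of whose norms are fixed by the plane, `q`-th powers are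
fixed by the plane. -/
theorem pow_mem_of_plane [hq : Fact q.Prime] {e h : B} (he : e ^ q = 1) (_hh : h ^ q = 1)
    (hc : Commute h e) (S : Subgroup F) (hS : ∀ c ∈ S, φ h c = c) (a : F) (h1 : nrm φ q e a ∈ S)
    (h2 : ∀ k : ZMod q, nrm φ q (h * zpw q e k) a ∈ S) : a ^ q ∈ S := by
  have hterm : ∀ k j : ZMod q, φ (zpw q (h * zpw q e k) j) a =
      φ (zpw q h j) (φ (zpw q e (k * j)) a) := by
    intro k j
    rw [← apply_mul, zpw_mul he k j]
    have hcm : Commute h (zpw q e k) := hc.pow_right _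
    exact congrArg (fun x => φ x a) (hcm.mul_pow j.val)
  have hprod : ∏ k : ZMod q, nrm φ q (h * zpw q e k) a =
      a ^ q * nrm φ q e a ^ (q - 1) := by
    calc ∏ k : ZMod q, nrm φ q (h * zpw q e k) a
        = ∏ j : ZMod q, φ (zpw q h j) (∏ k : ZMod q, φ (zpw q e (k * j)) a) := by
          simp only [nrm]
          rw [Finset.prod_comm]
          exact Finset.prod_congr rfl fun j _ => by
            rw [map_prod]; exact Finset.prod_congr rfl fun k _ => hterm k j
      _ = a ^ q * ∏ j ∈ Finset.univ.erase (0 : ZMod q), nrm φ q e a := by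
          rw [← Finset.mul_prod_erase Finset.univ _ (Finset.mem_univ (0 : ZMod q))]
          congr 1
          · simp [zpw_zero, Finset.card_univ, ZMod.card]
          · refine Finset.prod_congr rfl fun j hj => ?_
            have h3 : ∏ k : ZMod q, φ (zpw q e (k * j)) a = nrm φ q e a :=
              Fintype.prod_equiv (Equiv.mulRight₀ j (Finset.ne_of_mem_erase hj)) _ _ fun k => rfl
            rw [h3]
            exact (mem_fixBy φ).mp (fixBy_le_pow φ h j.val (hS _ h1))
      _ = _ := by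
          rw [Finset.prod_const, Finset.card_erase_of_mem (Finset.mem_univ _), Finset.card_univ,
            ZMod.card]
  have h4 : a ^ q * nrm φ q e a ^ (q - 1) ∈ S := hprod ▸ prod_mem fun k _ => h2 k
  exact (Subgroup.mul_mem_cancel_right S (pow_mem h1 _)).mp h4

/-- The order of a fixed-point-free element of prime order is prime to the order of the group. -/
theorem coprime_of_fpf [Finite F] [hq : Fact q.Prime] {g : B} (hg : g ^ q = 1) (h : fixBy φ g = ⊥) :
    (Nat.card F).Coprime q := by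
  refine (hq.out.coprime_iff_not_dvd.mpr fun hd => ?_).symm
  let T : Subgroup F :=
    { carrier := {a | a ^ q = 1}
      one_mem' := one_pow q
      mul_mem' := fun {a b} (ha : a ^ q = 1) (hb : b ^ q = 1) => show (a * b) ^ q = 1 by
        rw [mul_pow, ha, hb, one_mul]
      inv_mem' := fun {a} (ha : a ^ q = 1) => show a⁻¹ ^ q = 1 by rw [inv_pow, ha, inv_one] }
  obtain ⟨u, hu⟩ := exists_prime_orderOf_dvd_card' (G := F) q hd
  have hT : q ∣ Nat.card T := by
    have hu' : u ∈ T := by
      show u ^ q = 1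
      rw [← hu]; exact pow_orderOf_eq_one u
    have h1 := orderOf_dvd_natCard (⟨u, hu'⟩ : T)
    rwa [orderOf_mk, hu] at h1
  let _ : MulAction (zpowers g) T :=
    { smul := fun x a => ⟨φ x a, show φ x a ^ q = 1 by rw [← map_pow, a.2, map_one]⟩
      one_smul := fun a => Subtype.ext (apply_one φ _)
      mul_smul := fun x y a => Subtype.ext (apply_mul φ _ _ _) }
  have hP : IsPGroup q (zpowers g) := by
    obtain ⟨i, -, hi⟩ := (Nat.dvd_prime_pow hq.out).mp
      (show orderOf g ∣ q ^ 1 by rw [pow_one]; exact orderOf_dvd_of_pow_eq_one hg)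
    exact IsPGroup.of_card (by rw [Nat.card_zpowers, hi])
  obtain ⟨a, ha, ha1⟩ := hP.exists_fixed_point_of_prime_dvd_card_of_fixed_point T hT
    (a := (1 : T)) (fun x => Subtype.ext (map_one (φ x)))
  have h1 : (a : F) ∈ fixBy φ g := congrArg Subtype.val (ha ⟨g, mem_zpowers g⟩)
  rw [h, mem_bot] at h1
  exact ha1 (Subtype.ext h1.symm)

/-! ### Cyclic groups -/

theorem apply_comm_of_cyclic {S : Subgroup F} [IsCyclic S] {g h : B} (hg : ∀ c ∈ S, φ g c ∈ S)
    (hh : ∀ c ∈ S, φ h c ∈ S) {a : F} (ha : a ∈ S) : φ (g * h) a = φ (h * g) a := by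
  obtain ⟨⟨u, hu⟩, hgen⟩ := IsCyclic.exists_generator (α := S)
  have hp : ∀ c ∈ S, ∃ i : ℤ, u ^ i = c := fun c hc => by
    obtain ⟨i, hi⟩ := Subgroup.mem_zpowers_iff.mp (hgen ⟨c, hc⟩)
    exact ⟨i, congrArg Subtype.val hi⟩
  obtain ⟨i, hi⟩ := hp _ (hg u hu)
  obtain ⟨j, hj⟩ := hp _ (hh u hu)
  obtain ⟨k, rfl⟩ := hp a ha
  rw [map_zpow, map_zpow, apply_mul, apply_mul, ← hj, map_zpow, ← hi, map_zpow, ← hj, ← zpow_mul,
    ← zpow_mul, ← zpow_mul, ← zpow_mul, mul_left_comm i j k]

/-- The centraliser in `B` of a commutator stable cyclic subgroup contains the derived group. -/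
theorem commutator_le_of_cyclic {S : Subgroup F} [IsCyclic S] (hS : ∀ g, ∀ c ∈ S, φ g c ∈ S)
    {x : B} (hx : x ∈ commutator B) {a : F} (ha : a ∈ S) : φ x a = a := by
  let K : Subgroup B :=
    { carrier := {g | ∀ c ∈ S, φ g c = c}
      one_mem' := fun c _ => apply_one φ c
      mul_mem' := fun {g h} hg hh c hc => by rw [apply_mul, hh c hc, hg c hc]
      inv_mem' := fun {g} hg c hc => by
        conv_lhs => rw [← hg c hc]
        rw [← apply_mul, inv_mul_cancel, apply_one] }
  have hle : commutator B ≤ K := by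
    rw [_root_.commutator_def, commutator_le]
    intro g _ h _ c hc
    rw [commutatorElement_def, show g * h * g⁻¹ * h⁻¹ = g * h * (g⁻¹ * h⁻¹) by group, apply_mul,
      apply_comm_of_cyclic φ (hS g) (hS h) (hS _ c hc), ← apply_mul,
      show h * g * (g⁻¹ * h⁻¹) = 1 by group, apply_one]
  exact hle hx a ha

theorem eq_bot_of_cyclic [Finite F] {S K L : Subgroup F} [IsCyclic S] (hK : K ≤ S) (hL : L ≤ S)
    (hcard : Nat.card K = Nat.card L) (hKL : K ⊓ L = ⊥) : K = ⊥ := by
  have h : K.subgroupOf S = L.subgroupOf S := by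
    classical
    let _ := Fintype.ofFinite S
    let n := Nat.card K
    have key : ∀ M : Subgroup F, M ≤ S → Nat.card M = n →
        ((M.subgroupOf S : Subgroup S) : Set S) = ↑(Finset.univ.filter fun x : S => x ^ n = 1) := by
      intro M hM hMn
      refine Set.eq_of_subset_of_ncard_le (fun x hx => ?_) ?_ (Set.toFinite _)
      · simp only [Finset.coe_filter, Finset.mem_univ, true_and, Set.mem_ofPred_eq]
        refine Subtype.ext ?_
        have h1 : (⟨(x : F), hx⟩ : M) ^ n = 1 := hMn ▸ pow_card_eq_one'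
        simpa using congrArg Subtype.val h1
      · rw [Set.ncard_coe_finset, ← Nat.card_coe_set_eq]
        refine (IsCyclic.card_pow_eq_one_le (n := n) Nat.card_pos).trans (le_of_eq ?_)
        exact (hMn.symm.trans (Nat.card_congr (Subgroup.subgroupOfEquivOfLe hM).toEquiv).symm)
    exact SetLike.coe_injective ((key K hK rfl).trans (key L hL hcard.symm).symm)
  rw [Subgroup.subgroupOf_inj, inf_eq_left.mpr hK, inf_eq_left.mpr hL] at h
  rw [← hKL, h, inf_idem]

theorem card_le_of_exponent [Finite F] {S K : Subgroup F} [IsCyclic S] (hK : K ≤ S) {n : ℕ}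
    (hn : 0 < n) (he : ∀ c ∈ K, c ^ n = 1) : Nat.card K ≤ n := by
  classical
  let _ := Fintype.ofFinite S
  refine le_trans ?_ (IsCyclic.card_pow_eq_one_le (α := S) hn)
  rw [← Nat.card_eq_finsetCard]
  refine Nat.card_le_card_of_injective
    (fun c : K => (⟨⟨c, hK c.2⟩, Finset.mem_filter.mpr
      ⟨Finset.mem_univ _, Subtype.ext (by simpa using he c c.2)⟩⟩ :
      Finset.univ.filter fun x : S => x ^ n = 1))
    fun c d h => Subtype.ext (congrArg (fun x => ((x.1 : S) : F)) h)

end Cfsg.Agent.Bridge.BLemma
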