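import Cfsg.Agent.Bridge.BLemma.Mixed
import Cfsg.Agent.Cores.PCore
import Mathlib.GroupTheory.SpecificGroups.ZGroup
import Mathlib.RingTheory.ZMod.UnitsCyclic

/-!
The derived group of `B` is cyclic: either a normal `s`-subgroup of `B` moves the `s`-part of a
non-cyclic `F`, and then `B'` is a group of transvections of a plane, or all normal `p`-subgroups are cyclic.
-/

set_option autoImplicit false
set_option linter.unusedSectionVars false

namespace Cfsg.Agent.Bridge.BLemma

open Subgroup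
open scoped commutatorElement

variable {F B : Type*} [CommGroup F] [Finite F] [Group B] [Finite B] {φ : B →* MulAut F}

variable (F) in
/-- The elements of order dividing `n`. -/
def tor (n : ℕ) : Subgroup F where
  carrier := {a | a ^ n = 1}
  one_mem' := one_pow n
  mul_mem' := fun {a b} (ha : a ^ n = 1) (hb : b ^ n = 1) => show (a * b) ^ n = 1 by
    rw [mul_pow, ha, hb, one_mul]
  inv_mem' := fun {a} (ha : a ^ n = 1) => show a⁻¹ ^ n = 1 by rw [inv_pow, ha, inv_one]

variable (F) in
/-- The primary part. -/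
def prim (s : ℕ) : Subgroup F where
  carrier := {a | ∃ k, a ^ s ^ k = 1}
  one_mem' := ⟨0, one_pow _⟩
  mul_mem' := by
    rintro a b ⟨j, ha⟩ ⟨k, hb⟩
    refine ⟨j + k, ?_⟩
    rw [mul_pow, pow_add, pow_mul, ha, one_pow, one_mul, mul_comm (s ^ j), pow_mul, hb, one_pow]
  inv_mem' := by
    rintro a ⟨j, ha⟩
    exact ⟨j, by rw [inv_pow, ha, inv_one]⟩

theorem map_tor (g : B) {n : ℕ} {a : F} (ha : a ∈ tor F n) : φ g a ∈ tor F n := by
  show φ g a ^ n = 1
  rw [← map_pow, show a ^ n = 1 from ha, map_one]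

theorem map_prim (g : B) {s : ℕ} {a : F} (ha : a ∈ prim F s) : φ g a ∈ prim F s := by
  obtain ⟨k, hk⟩ := ha
  exact ⟨k, by rw [← map_pow, hk, map_one]⟩

theorem eq_one_of_prim (hinj : Function.Injective φ) {g : B}
    (h : ∀ l : ℕ, l.Prime → prim F l ≤ fixBy φ g) : g = 1 := by
  refine eq_one_of_fixBy_top hinj (Cores.eq_top_of_sylow_le fun l hl P a ha => h l hl.out ?_)
  obtain ⟨k, hk⟩ := P.isPGroup' ⟨a, ha⟩
  exact ⟨k, congrArg Subtype.val hk⟩

theorem delta_mul (g h : B) (a : F) : delta φ (g * h) a = φ g (delta φ h a) * delta φ g a := by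
  simp only [delta_apply, map_div, apply_mul, div_mul_div_cancel]

/-- A `p`-group of automorphisms fixes a non-trivial element of every invariant subgroup of order
divisible by `p`. -/
theorem exists_fixed {s : ℕ} [Fact s.Prime] {R : Subgroup B} (hR : IsPGroup s R) {S : Subgroup F}
    (hS : ∀ r ∈ R, ∀ a ∈ S, φ r a ∈ S) (hd : s ∣ Nat.card S) :
    ∃ a ∈ S, a ≠ 1 ∧ ∀ r ∈ R, a ∈ fixBy φ r := by
  let _ : MulAction R S :=
    { smul := fun r a => ⟨φ r a, hS r r.2 a a.2⟩
      one_smul := fun a => Subtype.ext (apply_one φ _)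
      mul_smul := fun r r' a => Subtype.ext (apply_mul φ _ _ _) }
  obtain ⟨a, ha, ha1⟩ := hR.exists_fixed_point_of_prime_dvd_card_of_fixed_point S hd
    (a := (1 : S)) (fun r => Subtype.ext (map_one (φ r)))
  exact ⟨a, a.2, fun h => ha1 (Subtype.ext h.symm), fun r hr => congrArg Subtype.val (ha ⟨r, hr⟩)⟩

theorem dvd_card_of_ne {s : ℕ} [hs : Fact s.Prime] {S : Subgroup F} {a : F} (ha : a ∈ S)
    (has : a ^ s = 1) (ha1 : a ≠ 1) : s ∣ Nat.card S :=
  orderOf_eq_prime has ha1 ▸ Subgroup.orderOf_dvd_natCard _ ha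

/-- The transvection case. -/
theorem isCyclic_commutator_of_plane (h : Hyp φ) {s : ℕ} [hs : Fact s.Prime]
    (hne : pCore s B ≠ ⊥) (hbig : s < Nat.card (tor F s)) : IsCyclic (commutator B) := by
  classical
  set R := pCore s B with hRdef
  have hRn : R.Normal := pCore_normal s B
  have hRp : IsPGroup s R := Cores.pCore_isPGroup
  set T := tor F s with hT
  have hTne : ∃ a ∈ T, a ≠ 1 := by
    refine (bot_or_exists_ne_one T).resolve_left fun hb => ?_
    rw [hb, card_bot] at hbig
    exact absurd hbig (by have := hs.out.two_le; omega)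
  obtain ⟨⟨e, heR⟩, -, hec, heo⟩ := PGroups.exists_mem_center_orderOf_eq hRp ⊤
    (fun hb => hne (Subgroup.ext fun x => ⟨fun hx => by
      have h1 : (⟨x, hx⟩ : R) ∈ (⊤ : Subgroup R) := mem_top _
      rw [hb, mem_bot] at h1
      exact mem_bot.mpr (congrArg Subtype.val h1), fun hx => mem_bot.mp hx ▸ one_mem _⟩))
  rw [orderOf_mk] at heo
  have he1 : e ≠ 1 := fun hh => hs.out.ne_one (by rw [← heo, hh, orderOf_one])
  have hecR : ∀ r ∈ R, Commute r e := fun r hr =>
    congrArg Subtype.val (mem_center_iff.mp hec ⟨r, hr⟩)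
  have := h.cyc e he1
  let L : Subgroup F :=
    { carrier := {a | a ∈ T ∧ ∀ r ∈ R, a ∈ fixBy φ r}
      one_mem' := ⟨one_mem _, fun r _ => one_mem _⟩
      mul_mem' := fun {a b} ha hb => ⟨mul_mem ha.1 hb.1, fun r hr => mul_mem (ha.2 r hr) (hb.2 r hr)⟩
      inv_mem' := fun {a} ha => ⟨inv_mem ha.1, fun r hr => inv_mem (ha.2 r hr)⟩ }
  have hLinv : ∀ g : B, ∀ a ∈ L, φ g a ∈ L := fun g a ha => ⟨map_tor g ha.1, fun r hr => by
    have h1 := map_mem_fixBy φ (g := g) (ha.2 (g⁻¹ * r * g) (hRn.conj_mem' r hr g))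
    rwa [show g * (g⁻¹ * r * g) * g⁻¹ = r by group] at h1⟩
  -- `L` is the kernel of `δ e` on `T`
  have hker : ∀ a ∈ T, a ∈ fixBy φ e → a ∈ L := by
    obtain ⟨a₀, ha₀, ha₀1⟩ := hTne
    obtain ⟨b, hb, hb1, hbR⟩ := exists_fixed (φ := φ) hRp (S := T) (fun r _ a ha => map_tor r ha)
      (dvd_card_of_ne ha₀ ha₀ ha₀1)
    have hbL : b ∈ L := ⟨hb, hbR⟩
    have hle : L ≤ T ⊓ fixBy φ e := fun a ha => ⟨ha.1, ha.2 e heR⟩
    have h1 : Nat.card (T ⊓ fixBy φ e : Subgroup F) ≤ s :=
      card_le_of_exponent inf_le_right hs.out.pos fun c hc => hc.1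
    have h2 : s ≤ Nat.card L := Nat.le_of_dvd Nat.card_pos (dvd_card_of_ne hbL hb hb1)
    have h3 := eq_of_le_of_card_ge hle (h1.trans h2)
    exact fun a ha hae => h3 ▸ ⟨ha, hae⟩
  have hLc : IsCyclic L := by
    have hle : L ≤ fixBy φ e := fun a ha => ha.2 e heR
    exact isCyclic_of_injective (inclusion hle) (inclusion_injective hle)
  -- an element mapped by `δ e` to a generator of `L`
  obtain ⟨a, haT, haL, ha1⟩ : ∃ a ∈ T, delta φ e a ∈ L ∧ delta φ e a ≠ 1 := by
    obtain ⟨a₀, ha₀, ha₀L⟩ : ∃ a₀ ∈ T, delta φ e a₀ ≠ 1 := by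
      by_contra hall
      push Not at hall
      have h1 : T ≤ fixBy φ e := fun a ha => (delta_eq_one_iff φ).mp (hall a ha)
      exact absurd (card_le_of_exponent h1 hs.out.pos fun c hc => hc) (not_le.mpr hbig)
    have hmem : delta φ e a₀ ∈ T.map (delta φ e) := mem_map_of_mem _ ha₀
    have hsub : T.map (delta φ e) ≤ T := by
      rintro _ ⟨a, ha, rfl⟩
      exact div_mem (map_tor e ha) ha
    obtain ⟨b, hb, hb1, hbR⟩ := exists_fixed (φ := φ) hRp (S := T.map (delta φ e))
      (by
        rintro r hr _ ⟨a, ha, rfl⟩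
        refine ⟨φ r a, map_tor r ha, ?_⟩
        simp only [delta_apply, map_div, ← apply_mul, (hecR r hr).eq])
      (dvd_card_of_ne hmem (hsub hmem) ha₀L)
    obtain ⟨a, ha, rfl⟩ := hb
    exact ⟨a, ha, ⟨hsub (mem_map_of_mem _ ha), hbR⟩, hb1⟩
  -- the plane
  let V : Subgroup F :=
    { carrier := {v | v ∈ T ∧ ∀ r ∈ R, delta φ r v ∈ L}
      one_mem' := ⟨one_mem _, fun r _ => by rw [map_one]; exact one_mem _⟩
      mul_mem' := fun {v w} hv hw =>
        ⟨mul_mem hv.1 hw.1, fun r hr => by rw [map_mul]; exact mul_mem (hv.2 r hr) (hw.2 r hr)⟩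
      inv_mem' := fun {v} hv => ⟨inv_mem hv.1, fun r hr => by rw [map_inv]; exact inv_mem (hv.2 r hr)⟩ }
  have haV : a ∈ V := by
    refine ⟨haT, fun r hr => hker _ (div_mem (map_tor r haT) haT) ((delta_eq_one_iff φ).mp ?_)⟩
    show delta φ e (delta φ r a) = 1
    rw [delta_comm φ (hecR r hr).symm, delta_eq_one_iff]
    exact haL.2 r hr
  have hVinv : ∀ g : B, ∀ v ∈ V, φ g v ∈ V := fun g v hv => ⟨map_tor g hv.1, fun r hr => by
    have h1 := hLinv g _ (hv.2 (g⁻¹ * r * g) (hRn.conj_mem' r hr g))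
    rwa [delta_apply, map_div, ← apply_mul, show g * (g⁻¹ * r * g) = r * g by group, apply_mul,
      ← delta_apply] at h1⟩
  have hLs : ∀ l ∈ L, ∃ i : ℤ, delta φ e a ^ i = l := by
    intro l hl
    have h1 : Nat.card L ≤ s := card_le_of_exponent (K := L) (fun x (hx : x ∈ L) => hx.2 e heR) hs.out.pos fun c (hc : c ∈ L) => hc.1
    have h2 : zpowers (delta φ e a) = L := by
      refine eq_of_le_of_card_ge (zpowers_le.mpr haL) ?_
      rwa [Nat.card_zpowers, orderOf_eq_prime haL.1 ha1]
    exact mem_zpowers_iff.mp (h2.symm ▸ hl)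
  have hVgen : ∀ v ∈ V, ∃ i : ℤ, v / a ^ i ∈ L := by
    intro v hv
    obtain ⟨i, hi⟩ := hLs _ (hv.2 e heR)
    refine ⟨i, hker _ (div_mem hv.1 (zpow_mem haT i)) ((delta_eq_one_iff φ).mp ?_)⟩
    rw [map_div, map_zpow, hi, div_self']
  -- commutators are transvections
  let K : Subgroup B :=
    { carrier := {g | (∀ l ∈ L, φ g l = l) ∧ delta φ g a ∈ L}
      one_mem' := ⟨fun l _ => apply_one φ l, by rw [delta_apply, apply_one, div_self']; exact one_mem _⟩
      mul_mem' := fun {g g'} hg hg' => ⟨fun l hl => by rw [apply_mul, hg'.1 l hl, hg.1 l hl],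
        by rw [delta_mul, hg.1 _ hg'.2]; exact mul_mem hg'.2 hg.2⟩
      inv_mem' := fun {g} hg => by
        have h1 : ∀ l ∈ L, φ g⁻¹ l = l := fun l hl => by
          conv_lhs => rw [← hg.1 l hl]
          rw [← apply_mul, inv_mul_cancel, apply_one]
        refine ⟨h1, ?_⟩
        have h2 := delta_mul (φ := φ) g⁻¹ g a
        rw [inv_mul_cancel, delta_apply, apply_one, div_self', h1 _ hg.2] at h2
        rw [← inv_eq_of_mul_eq_one_right h2.symm]
        exact inv_mem hg.2 }
  have hle : commutator B ≤ K := by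
    rw [_root_.commutator_def, commutator_le]
    intro g _ g' _
    refine ⟨fun l hl => commutator_le_of_cyclic φ hLinv ?_ hl, ?_⟩
    · rw [_root_.commutator_def]; exact commutator_mem_commutator (mem_top _) (mem_top _)
    have hkey : ∀ v ∈ V, φ (g * g') v / φ (g' * g) v ∈ L := by
      intro v hv
      obtain ⟨i, hi⟩ := hVgen v hv
      obtain ⟨j, hj⟩ := hVgen _ (hVinv g a haV)
      obtain ⟨j', hj'⟩ := hVgen _ (hVinv g' a haV)
      have e1 : φ g a = a ^ j * (φ g a / a ^ j) := (mul_div_cancel _ _).symm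
      have e2 : φ g' a = a ^ j' * (φ g' a / a ^ j') := (mul_div_cancel _ _).symm
      set l₁ := φ g a / a ^ j
      set l₂ := φ g' a / a ^ j'
      have e3 : φ (g * g') a / φ (g' * g) a = (l₁ ^ j' * φ g l₂) / (l₂ ^ j * φ g' l₁) := by
        rw [apply_mul, apply_mul, e2, map_mul, map_zpow, e1, map_mul, map_zpow, e2, mul_zpow, mul_zpow,
          ← zpow_mul, ← zpow_mul, mul_comm j' j, mul_assoc, mul_assoc]
        exact mul_div_mul_left_eq_div _ _ _
      have e4 : φ (g * g') a / φ (g' * g) a ∈ L := by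
        rw [e3]
        exact div_mem (mul_mem (zpow_mem hj j') (hLinv g _ hj')) (mul_mem (zpow_mem hj' j) (hLinv g' _ hj))
      rw [show v = a ^ i * (v / a ^ i) from (mul_div_cancel _ _).symm, map_mul (φ (g * g')),
        map_mul (φ (g' * g)), map_zpow (φ (g * g')), map_zpow (φ (g' * g)), mul_div_mul_comm, ← div_zpow]
      exact mul_mem (zpow_mem e4 i) (div_mem (hLinv _ _ hi) (hLinv _ _ hi))
    have h1 := hkey _ (hVinv (g' * g)⁻¹ a haV)
    rwa [← apply_mul, ← apply_mul, mul_inv_cancel, apply_one,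
      show g * g' * (g' * g)⁻¹ = ⁅g, g'⁆ by rw [commutatorElement_def]; group] at h1
  let f : commutator B →* L :=
    { toFun := fun g => ⟨delta φ g a, (hle g.2).2⟩
      map_one' := Subtype.ext (by simp [delta_apply])
      map_mul' := fun g g' => Subtype.ext (by
        show delta φ ((g : B) * g') a = delta φ g a * delta φ g' a
        rw [delta_mul, (hle g.2).1 _ (hle g'.2).2, mul_comm]) }
  refine isCyclic_of_injective f ((injective_iff_map_eq_one f).mpr fun g hg => Subtype.ext ?_)
  have hga : a ∈ fixBy φ (g : B) := (delta_eq_one_iff φ).mp (congrArg Subtype.val hg)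
  by_contra hg1
  have := h.cyc (g : B) hg1
  have hVg : V ≤ fixBy φ (g : B) := fun v hv => by
    obtain ⟨i, hi⟩ := hVgen v hv
    rw [show v = a ^ i * (v / a ^ i) from (mul_div_cancel _ _).symm]
    exact mul_mem (zpow_mem hga i) ((hle g.2).1 _ hi)
  have hVs : Nat.card V ≤ s := card_le_of_exponent hVg hs.out.pos fun c hc => hc.1
  have hza : zpowers a = V := by
    refine eq_of_le_of_card_ge (zpowers_le.mpr haV) (hVs.trans ?_)
    rw [Nat.card_zpowers, orderOf_eq_prime haT fun hh => ha1 (by rw [hh, map_one])]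
  have hLV : delta φ e a ∈ V := ⟨haL.1, fun r hr => by
    rw [(delta_eq_one_iff φ).mpr (haL.2 r hr)]; exact one_mem _⟩
  obtain ⟨j, hj⟩ := mem_zpowers_iff.mp (hza.symm ▸ hLV)
  refine ha1 ?_
  have h3 : (delta φ e a) ^ j = 1 := by
    rw [← map_zpow, hj, delta_eq_one_iff]
    exact haL.2 e heR
  by_contra hne1
  have h4 : (orderOf (delta φ e a) : ℤ) ∣ j := orderOf_dvd_iff_zpow_eq_one.mpr h3
  rw [orderOf_eq_prime haL.1 hne1] at h4
  obtain ⟨k, rfl⟩ := h4
  rw [zpow_mul, zpow_natCast, show a ^ s = 1 from haT, one_zpow] at hj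
  exact hne1 hj.symm

/-- A commutator of a `p`-subgroup with a fixed-point-free element of order `q` fixes the coprime
parts of `F`. -/
theorem commutator_fixes_tor {q : ℕ} [hq : Fact q.Prime] {y : B} (hyq : y ^ q = 1)
    (hyf : fixBy φ y = ⊥) {s : ℕ} [hs : Fact s.Prime] (hsq : s ≠ q) (hs2 : s ≠ 2) {R : Subgroup B}
    (hR : IsPGroup s R) (hyR : y ∈ normalizer (R : Set B)) {r : B} (hr : r ∈ R) {l : ℕ}
    [hl : Fact l.Prime] (hls : l ≠ s) {a : F} (ha : a ^ l = 1) : φ ⁅y, r⁆ a = a := by
  rcases eq_or_ne l q with rfl | hlq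
  · rw [eq_one_of_pow_eq_one (coprime_of_fpf φ hyq hyf) ha, map_one]
  let X := F ⋊[φ] B
  have : Finite X := Finite.of_equiv _ SemidirectProduct.equivProd.symm
  let V : Subgroup X := (tor F l).map SemidirectProduct.inl
  have hVc : IsMulCommutative V := PGroups.isMulCommutative_of_comm (by
    rintro _ ⟨u, -, rfl⟩ _ ⟨v, -, rfl⟩
    rw [← map_mul, ← map_mul, mul_comm])
  have hnorm : ∀ g : B, SemidirectProduct.inr g ∈ normalizer (V : Set X) := by
    intro g
    refine mem_normalizer_fintype ?_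
    rintro _ ⟨u, hu, rfl⟩
    exact ⟨φ g u, map_tor g hu, by rw [SemidirectProduct.inl_aut]; simp⟩
  have hmain := Coprime.FpfElem.commutator_le_centralizer (l := l) (r := q) V
    (by rintro _ ⟨u, hu, rfl⟩; rw [← map_pow, show u ^ l = 1 from hu, map_one])
    (SemidirectProduct.inr y) (by rw [← map_pow, hyq, map_one]) hlq (hnorm y)
    (by
      rintro _ ⟨u, -, rfl⟩ hc
      have h1 : (SemidirectProduct.inl (φ y u) : X) = SemidirectProduct.inl u := by
        rw [SemidirectProduct.inl_aut, hc, map_inv, mul_inv_cancel_right]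
      have h2 : u ∈ fixBy φ y := SemidirectProduct.inl_injective h1
      rw [hyf, mem_bot] at h2
      rw [h2, map_one])
    (R.map SemidirectProduct.inr) (by rintro _ ⟨g, -, rfl⟩; exact hnorm g)
    (by
      refine mem_normalizer_fintype ?_
      rintro _ ⟨g, hg, rfl⟩
      exact ⟨y * g * y⁻¹, (mem_normalizer_iff.mp hyR g).mp hg, by simp⟩)
    (by
      intro p hp hpd
      rw [card_map_of_injective SemidirectProduct.inr_injective] at hpd
      obtain ⟨n, hn⟩ := IsPGroup.iff_card.mp hR
      have hps : p = s := (Nat.prime_dvd_prime_iff_eq hp hs.out).mp (hp.dvd_of_dvd_pow (hn ▸ hpd))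
      subst hps
      exact ⟨hls.symm, hsq, fun hh => hs2 hh.1⟩)
  have h1 := hmain (commutator_mem_commutator (mem_zpowers _) (mem_map_of_mem SemidirectProduct.inr hr))
  rw [← map_commutatorElement, mem_centralizer_iff] at h1
  have h2 := h1 (SemidirectProduct.inl a) ⟨a, ha, rfl⟩
  refine SemidirectProduct.inl_injective (φ := φ) ?_
  rw [SemidirectProduct.inl_aut, ← h2, map_inv, mul_inv_cancel_right]

theorem mem_fixBy_of_tor {s : ℕ} {c : B} (hc : ∃ n, c ^ s ^ n = 1) {l : ℕ} (hls : Nat.Coprime l s)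
    (h : ∀ a ∈ tor F l, φ c a = a) {a : F} (ha : a ∈ prim F l) : a ∈ fixBy φ c := by
  obtain ⟨k, hk⟩ := ha
  induction k generalizing a with
  | zero => rw [pow_zero, pow_one] at hk; rw [hk]; exact one_mem _
  | succ k ih =>
    have h1 : a ^ l ∈ fixBy φ c := ih (by rwa [← pow_mul, ← pow_succ'])
    have hd : delta φ c a ^ l = 1 := by rw [← map_pow, delta_eq_one_iff]; exact h1
    obtain ⟨n, hn⟩ := hc
    have hd2 : delta φ c a ^ s ^ n = 1 := pow_eq_one_of_delta_fixed φ hn (h _ hd)
    rw [← delta_eq_one_iff]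
    exact orderOf_eq_one_iff.mp (Nat.eq_one_of_dvd_coprimes (hls.pow_right n)
      (orderOf_dvd_of_pow_eq_one hd) (orderOf_dvd_of_pow_eq_one hd2))

/-- The cyclic case: every normal `p`-subgroup is cyclic. -/
theorem isCyclic_pCore (h : Hyp φ) {q : ℕ} [hq : Fact q.Prime] {y : B} (hy : orderOf y = q)
    (hyf : fixBy φ y = ⊥) (hcyc : ∀ R : Subgroup B, IsPGroup q R → IsCyclic R) {s : ℕ} [hs : Fact s.Prime]
    (hsmall : pCore s B ≠ ⊥ → Nat.card (tor F s) ≤ s) : IsCyclic (pCore s B) := by
  classical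
  rcases eq_or_ne s q with rfl | hsq
  · exact hcyc _ Cores.pCore_isPGroup
  rcases eq_or_ne (pCore s B) ⊥ with hb | hne
  · rw [hb]; infer_instance
  set R := pCore s B with hRdef
  have hRn : R.Normal := pCore_normal s B
  have hRp : IsPGroup s R := Cores.pCore_isPGroup
  have hs2 : s ≠ 2 := by
    obtain ⟨x, -, hx⟩ := PGroups.exists_orderOf_eq hRp (H := (⊤ : Subgroup R)) (fun hb => hne
      (Subgroup.ext fun x => ⟨fun hx => by
        have h1 : (⟨x, hx⟩ : R) ∈ (⊤ : Subgroup R) := mem_top _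
        rw [hb, mem_bot] at h1
        exact mem_bot.mpr (congrArg Subtype.val h1), fun hx => mem_bot.mp hx ▸ one_mem _⟩))
    rw [← orderOf_coe] at hx
    exact prime_ne_two h (hx ▸ pow_orderOf_eq_one (x : B))
      (fun hh => hs.out.ne_one (by rw [← hx, hh, orderOf_one]))
  have hyq : y ^ q = 1 := hy ▸ pow_orderOf_eq_one y
  have hPp : IsPGroup s (prim F s) := fun ⟨a, k, hk⟩ => ⟨k, Subtype.ext (by simpa using hk)⟩
  have hPc : IsCyclic (prim F s) := by
    by_contra hnc
    obtain ⟨A, -, -, hA, hAc⟩ := PGroups.exists_normal_elementary_sq hPp hs2 hnc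
    have hle : A.map (prim F s).subtype ≤ tor F s := by
      rintro _ ⟨u, hu, rfl⟩
      exact congrArg Subtype.val (hA u hu)
    have h1 := (card_le_of_le hle).trans (hsmall hne)
    rw [card_map_of_injective (Subgroup.subtype_injective _), hAc] at h1
    nlinarith [hs.out.two_le]
  -- `y` centralises `R`
  have hyR : ∀ r ∈ R, Commute y r := by
    intro r hr
    refine commutatorElement_eq_one_iff_commute.mp (eq_one_of_prim h.inj fun l hl a ha => ?_)
    rcases eq_or_ne l s with rfl | hls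
    · exact commutator_le_of_cyclic φ (fun g c hc => map_prim g hc)
        (by rw [_root_.commutator_def]; exact commutator_mem_commutator (mem_top _) (mem_top _)) ha
    · have := Fact.mk hl
      have hcR : ⁅y, r⁆ ∈ R := by
        rw [commutatorElement_def]
        exact mul_mem (hRn.conj_mem r hr y) (inv_mem hr)
      obtain ⟨n, hn⟩ := hRp ⟨_, hcR⟩
      refine mem_fixBy_of_tor (s := s) ⟨n, congrArg Subtype.val hn⟩
        ((Nat.coprime_primes hl hs.out).mpr hls) (fun b hb => ?_) ha
      exact commutator_fixes_tor hyq hyf hsq hs2 hRp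
        (by rw [normalizer_eq_top]; exact mem_top _) hr hls hb
  by_contra hnc
  obtain ⟨E, -, hEc, hEq, hEcard⟩ := PGroups.exists_normal_elementary_sq hRp hs2 hnc
  obtain ⟨e, heE, he1⟩ := (bot_or_exists_ne_one E).resolve_left (fun hb => by
    rw [hb, card_bot] at hEcard
    exact absurd hEcard.symm (Nat.one_lt_pow two_ne_zero hs.out.one_lt).ne')
  obtain ⟨w, hwE, hwe⟩ : ∃ w ∈ E, w ∉ zpowers e := by
    by_contra hall
    push Not at hall
    have h2 := card_le_of_le (show E ≤ zpowers e from hall)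
    rw [hEcard, Nat.card_zpowers, orderOf_eq_prime (hEq e heE) he1] at h2
    nlinarith [hs.out.two_le]
  let ι : E →* B := R.subtype.comp E.subtype
  have hιinj : Function.Injective ι := R.subtype_injective.comp E.subtype_injective
  -- an element of the plane centralises the fixed points of a non-trivial one
  have hpair : ∀ g ∈ E, g ≠ 1 → ∀ u ∈ E, fixBy φ (g : B) ≤ fixBy φ (u : B) := by
    intro g hg hg1 u hu a ha
    have hgu : Commute (u : B) (g : B) := congrArg ι (hEc.is_comm.comm ⟨u, hu⟩ ⟨g, hg⟩)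
    obtain ⟨n, hn⟩ := h.galois (g : B) y (u : B) (fun hh => hg1 (Subtype.ext hh)) (hyR _ g.2) hgu
      (fun c _ hc => mem_bot.mp (hyf ▸ hc))
    by_cases hqn : q ∣ n
    · rw [mem_fixBy, hn a ha, ← hy] at *
      rw [orderOf_dvd_iff_pow_eq_one.mp hqn, apply_one]
    · have hmem : ∀ k : ℕ, φ (y ^ k) a ∈ fixBy φ (g : B) := fun k =>
        map_mem_fixBy_of_commute φ ((hyR _ g.2).pow_left k) ha
      have hk : ∀ k : ℕ, φ ((u : B) ^ k) a = φ (y ^ (n * k)) a := by
        intro k
        induction k with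
        | zero => rw [pow_zero, mul_zero, pow_zero]
        | succ k ih =>
          rw [pow_succ' (u : B), apply_mul, ih, hn _ (hmem _), ← apply_mul, ← pow_add,
            show n + n * k = n * (k + 1) by ring]
      have h1 := hk s
      rw [show (u : B) ^ s = 1 by rw [← SubmonoidClass.coe_pow, hEq u hu]; rfl, apply_one] at h1
      have hns : ¬ q ∣ n * s := fun hd => (hq.out.dvd_mul.mp hd).elim hqn fun hd' =>
        hsq ((Nat.prime_dvd_prime_iff_eq hq.out hs.out).mp hd').symm
      have h2 : a ∈ fixBy φ (zpw q y ((n * s : ℕ) : ZMod q)) := by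
        rw [zpw_natCast hyq]; exact h1.symm
      rw [pow_val_eq_of_commute_fix hyq (fun h0 => hns ((ZMod.natCast_eq_zero_iff _ _).mp h0)), hyf,
        mem_bot] at h2
      rw [h2]; exact one_mem _
  let S : Subgroup F :=
    { carrier := {a | ∀ u ∈ E, a ∈ fixBy φ (u : B)}
      one_mem' := fun u _ => one_mem _
      mul_mem' := fun ha hb u hu => mul_mem (ha u hu) (hb u hu)
      inv_mem' := fun ha u hu => inv_mem (ha u hu) }
  -- the `s`-part is fixed
  have hsS : prim F s ≤ S := by
    obtain ⟨g, hg, hg1, hgP⟩ : ∃ g ∈ E, g ≠ 1 ∧ prim F s ≤ fixBy φ (g : B) := by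
      by_contra hall
      push Not at hall
      let θ : E →* MulAut (prim F s) :=
        { toFun := fun g =>
            { toFun := fun a => ⟨φ (ι g) a, map_prim _ a.2⟩
              invFun := fun a => ⟨φ (ι g)⁻¹ a, map_prim _ a.2⟩
              left_inv := fun a => Subtype.ext
                (show φ (ι g)⁻¹ (φ (ι g) a) = (a : F) by rw [← apply_mul, inv_mul_cancel, apply_one])
              right_inv := fun a => Subtype.ext
                (show φ (ι g) (φ (ι g)⁻¹ a) = (a : F) by rw [← apply_mul, mul_inv_cancel, apply_one])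
              map_mul' := fun a b => Subtype.ext (map_mul (φ (ι g)) _ _) }
          map_one' := MulEquiv.ext fun a => Subtype.ext
            (show φ (ι 1) a = (a : F) by rw [map_one ι, apply_one])
          map_mul' := fun g g' => MulEquiv.ext fun a => Subtype.ext
            (show φ (ι (g * g')) a = φ (ι g) (φ (ι g') a) by rw [map_mul ι, apply_mul]) }
      have hθ : Function.Injective θ := (injective_iff_map_eq_one θ).mpr fun g hg => by
        by_contra hg1
        refine hall g g.2 (fun hh => hg1 (Subtype.ext hh)) fun a ha => ?_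
        exact congrArg Subtype.val (DFunLike.congr_fun hg ⟨a, ha⟩)
      obtain ⟨m, hm⟩ := IsPGroup.iff_card.mp hPp
      have hcu : IsCyclic (ZMod (Nat.card (prim F s)))ˣ := by
        rw [hm]; exact ZMod.isCyclic_units_of_prime_pow s hs.out hs2 m
      have hEcyc : IsCyclic E := isCyclic_of_injective
        ((IsCyclic.mulAutMulEquiv (prim F s)).toMonoidHom.comp θ)
        (fun _ _ hh => hθ ((IsCyclic.mulAutMulEquiv (prim F s)).injective hh))
      obtain ⟨v, hv⟩ := hEcyc.exists_generator
      have h1 : orderOf v ∣ s := orderOf_dvd_of_pow_eq_one (Subtype.ext (hEq v v.2))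
      rw [orderOf_eq_card_of_forall_mem_zpowers hv, hEcard] at h1
      exact absurd (Nat.le_of_dvd hs.out.pos h1) (by nlinarith [hs.out.two_le])
    exact fun a ha u hu => hpair g hg hg1 u hu (hgP ha)
  have hcop : ∀ l : ℕ, l.Prime → prim F l ≤ S := by
    intro l hl a ha
    rcases eq_or_ne l s with rfl | hls
    · exact hsS ha
    have heq : (e : B) ^ s = 1 := by rw [← SubmonoidClass.coe_pow, hEq e heE]; rfl
    have hwq : (w : B) ^ s = 1 := by rw [← SubmonoidClass.coe_pow, hEq w hwE]; rfl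
    have hc : Commute (w : B) (e : B) := congrArg ι (hEc.is_comm.comm ⟨w, hwE⟩ ⟨e, heE⟩)
    have hpow : a ^ s ∈ S := by
      refine pow_mem_of_plane φ heq hwq hc S (fun c hc' => hc' w hwE) a
        (fun u hu => hpair e heE he1 u hu (nrm_mem_fixBy φ heq a)) fun k u hu => ?_
      have h1 : (w : B) * zpw s (e : B) k = ((w * e ^ k.val : R) : B) := by simp [zpw]
      rw [h1]
      refine hpair _ (E.mul_mem hwE (pow_mem heE _)) (fun hh => hwe ?_) u hu (nrm_mem_fixBy φ ?_ a)
      · rw [eq_inv_of_mul_eq_one_left hh]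
        exact inv_mem (npow_mem_zpowers e _)
      · rw [← SubmonoidClass.coe_pow, hEq _ (E.mul_mem hwE (pow_mem heE _))]; rfl
    obtain ⟨k, hk⟩ := ha
    have hco : (orderOf a).Coprime s := Nat.Coprime.coprime_dvd_left (orderOf_dvd_of_pow_eq_one hk)
      (((Nat.coprime_primes hl hs.out).mpr hls).pow_left k)
    obtain ⟨j, hj⟩ := exists_pow_eq_self_of_coprime hco.symm
    rw [← hj]
    exact pow_mem hpow j
  have : e = 1 := Subtype.ext (eq_one_of_prim h.inj fun l hl a ha => hcop l hl ha e heE)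
  exact he1 this

/-- The derived group is cyclic. -/
theorem isCyclic_commutator [Nontrivial F] (h : Hyp φ) : IsCyclic (commutator B) := by
  classical
  by_cases hB : Nontrivial B
  swap
  · have := not_nontrivial_iff_subsingleton.mp hB
    infer_instance
  obtain ⟨q, hq, -, -, hqd, hall, hcyc⟩ := exists_fpf_prime h hB
  have := Fact.mk hq
  obtain ⟨y, hy⟩ := exists_prime_orderOf_dvd_card' (G := B) q hqd
  have hyf : fixBy φ y = ⊥ := hall y (hy ▸ pow_orderOf_eq_one y)
    (fun hh => hq.ne_one (by rw [← hy, hh, orderOf_one]))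
  by_cases hbig : ∃ s, ∃ _ : Fact s.Prime, pCore s B ≠ ⊥ ∧ s < Nat.card (tor F s)
  · obtain ⟨s, hs, h1, h2⟩ := hbig
    exact isCyclic_commutator_of_plane h h1 h2
  push Not at hbig
  have := h.solvable
  set N := fittingSubgroup B with hN
  have hNn : N.Normal := inferInstance
  have : Group.IsNilpotent N := Cores.fittingSubgroup_isNilpotent
  have : IsZGroup N := ⟨fun p hp P => by
    have := Fact.mk hp
    have hPn : (P : Subgroup N).Normal := inferInstance
    have : (P : Subgroup N).Characteristic := Sylow.characteristic_of_normal P hPn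
    have hle : (P : Subgroup N).map N.subtype ≤ pCore p B := Cores.le_pCore (P.isPGroup'.map _)
    have := isCyclic_pCore h hy hyf hcyc (s := p) fun hne => hbig p ⟨hp⟩ hne
    have hc := isCyclic_of_injective (inclusion hle) (inclusion_injective hle)
    exact (MulEquiv.isCyclic ((P : Subgroup N).equivMapOfInjective _ N.subtype_injective)).mpr hc⟩
  have hNc : IsCyclic N := inferInstance
  have hle : commutator B ≤ N := by
    refine le_trans ?_ (Cores.centralizer_fittingSubgroup_le (G := B))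
    intro x hx
    rw [mem_centralizer_iff]
    intro u hu
    let θ : B →* (ZMod (Nat.card N))ˣ := (IsCyclic.mulAutMulEquiv N).toMonoidHom.comp MulAut.conjNormal
    have h1 : θ x = 1 := Abelianization.commutator_subset_ker θ hx
    have h2 : MulAut.conjNormal x = (1 : MulAut N) :=
      (IsCyclic.mulAutMulEquiv N).injective (h1.trans (map_one _).symm)
    have h3 : x * u * x⁻¹ = u := by
      have := congrArg Subtype.val (DFunLike.congr_fun h2 ⟨u, hu⟩)
      rwa [MulAut.conjNormal_apply] at this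
    exact (mul_inv_eq_iff_eq_mul.mp h3).symm
  exact isCyclic_of_injective (inclusion hle) (inclusion_injective hle)

end Cfsg.Agent.Bridge.BLemma
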