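import Cfsg.Agent.Bridge.BLemma.Basic

/-!
A plane `⟨z, z₀⟩` of order `q ^ 2` with `z₀` fixed-point-free and the other lines conjugate and good: the
fixed groups of the lines are independent and the centraliser of the plane is the plane.
-/

set_option autoImplicit false
set_option linter.unusedSectionVars false

namespace Cfsg.Agent.Bridge.BLemma

open Subgroup

variable {F B : Type*} [CommGroup F] [Finite F] [Group B] [Finite B] {φ : B →* MulAut F}
variable {q : ℕ} [hq : Fact q.Prime]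

theorem pow_val_eq_of_commute_fix {g : B} (hg : g ^ q = 1) {i : ZMod q} (hi : i ≠ 0) :
    fixBy φ (zpw q g i) = fixBy φ g := by
  refine le_antisymm ?_ (fixBy_le_pow φ g i.val)
  have h := fixBy_le_pow φ (zpw q g i) (i⁻¹).val
  rwa [← zpw_mul hg, mul_inv_cancel₀ hi, zpw_one hg] at h

theorem eq_one_of_pow_eq_one {n : ℕ} (h : (Nat.card F).Coprime n) {a : F} (ha : a ^ n = 1) : a = 1 :=
  orderOf_eq_one_iff.mp (Nat.eq_one_of_dvd_coprimes h (orderOf_dvd_natCard a)
    (orderOf_dvd_of_pow_eq_one ha))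

variable (φ q) in
/-- The plane. -/
structure Frame where
  z₀ : B
  z : B
  z₀_pow : z₀ ^ q = 1
  z_pow : z ^ q = 1
  comm : Commute z z₀
  fpf : fixBy φ z₀ = ⊥
  good : fixBy φ z ≠ ⊥
  z_ne : z ≠ 1
  z₀_ne : z₀ ≠ 1

namespace Frame

variable (P : Frame φ q)

/-- The element with coordinates `i`, `j`. -/
def el (i j : ZMod q) : B := zpw q P.z i * zpw q P.z₀ j

/-- The lines other than `⟨z₀⟩`. -/
def line (k : ZMod q) : B := P.el 1 k

theorem el_mul (i j i' j' : ZMod q) : P.el i j * P.el i' j' = P.el (i + i') (j + j') := by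
  rw [el, el, el, zpw_add P.z_pow, zpw_add P.z₀_pow, mul_assoc, mul_assoc,
    (commute_zpw P.comm i' j).symm.left_comm]

theorem el_zero : P.el 0 0 = 1 := by rw [el, zpw_zero, zpw_zero, one_mul]

theorem el_one_zero : P.el 1 0 = P.z := by rw [el, zpw_one P.z_pow, zpw_zero, mul_one]

theorem el_zero_left (j : ZMod q) : P.el 0 j = zpw q P.z₀ j := by rw [el, zpw_zero, one_mul]

theorem el_commute (i j i' j' : ZMod q) : Commute (P.el i j) (P.el i' j') := by
  show _ * _ = _ * _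
  rw [el_mul, el_mul, add_comm i, add_comm j]

theorem el_pow (i j : ZMod q) (n : ℕ) : P.el i j ^ n = P.el (n * i) (n * j) := by
  induction n with
  | zero => rw [pow_zero, Nat.cast_zero, zero_mul, zero_mul, el_zero]
  | succ n ih => rw [pow_succ, ih, el_mul, Nat.cast_succ, add_mul, one_mul, add_mul, one_mul]

theorem el_pow_q (i j : ZMod q) : P.el i j ^ q = 1 := by
  rw [el_pow, ZMod.natCast_self, zero_mul, zero_mul, el_zero]

theorem el_inv (i j : ZMod q) : (P.el i j)⁻¹ = P.el (-i) (-j) :=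
  inv_eq_of_mul_eq_one_right (by rw [el_mul, add_neg_cancel, add_neg_cancel, el_zero])

theorem fix_zpw_z₀ {j : ZMod q} (hj : j ≠ 0) : fixBy φ (zpw q P.z₀ j) = ⊥ := by
  rw [pow_val_eq_of_commute_fix P.z₀_pow hj, P.fpf]

theorem el_zero_left_ne {j : ZMod q} (hj : j ≠ 0) : P.el 0 j ≠ 1 := by
  intro h
  rw [el_zero_left] at h
  have h1 : zpw q (zpw q P.z₀ j) j⁻¹ = 1 := by rw [zpw, h, one_pow]
  rw [zpw, ← zpw_mul P.z₀_pow, mul_inv_cancel₀ hj, zpw_one P.z₀_pow] at h1
  exact P.z₀_ne h1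

theorem el_eq_one_iff {i j : ZMod q} : P.el i j = 1 ↔ i = 0 ∧ j = 0 := by
  refine ⟨fun h => ?_, fun ⟨hi, hj⟩ => by rw [hi, hj, el_zero]⟩
  by_cases hi : i = 0
  · subst hi
    exact ⟨rfl, by_contra fun hj => P.el_zero_left_ne hj h⟩
  · exfalso
    have h1 : P.el 1 (i⁻¹ * j) = 1 := by
      have := P.el_pow i j (i⁻¹).val
      rw [h, one_pow, ZMod.natCast_zmod_val, inv_mul_cancel₀ hi] at this
      exact this.symm
    have h2 : P.z = zpw q P.z₀ (-(i⁻¹ * j)) := by
      rw [← el_zero_left, ← el_one_zero]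
      calc P.el 1 0 = P.el 1 (i⁻¹ * j) * P.el 0 (-(i⁻¹ * j)) := by
            rw [el_mul, add_zero, add_neg_cancel]
        _ = _ := by rw [h1, one_mul]
    rcases eq_or_ne (-(i⁻¹ * j)) 0 with h0 | h0
    · rw [h0, zpw_zero] at h2
      exact P.z_ne h2
    · exact P.good (h2 ▸ P.fix_zpw_z₀ h0)

theorem el_injective {i j i' j' : ZMod q} (h : P.el i j = P.el i' j') : i = i' ∧ j = j' := by
  have h1 : P.el (i - i') (j - j') = 1 := by
    rw [sub_eq_add_neg, sub_eq_add_neg, ← el_mul, ← el_inv, h, mul_inv_cancel]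
  obtain ⟨a, b⟩ := P.el_eq_one_iff.mp h1
  exact ⟨sub_eq_zero.mp a, sub_eq_zero.mp b⟩

theorem line_ne_one (k : ZMod q) : P.line k ≠ 1 :=
  fun h => one_ne_zero (P.el_eq_one_iff.mp h).1

theorem line_pow_q (k : ZMod q) : P.line k ^ q = 1 := P.el_pow_q _ _

theorem el_eq_zpw_line {i : ZMod q} (hi : i ≠ 0) (j : ZMod q) :
    P.el i j = zpw q (P.line (i⁻¹ * j)) i := by
  rw [zpw, line, el_pow, ZMod.natCast_zmod_val, mul_one, ← mul_assoc, mul_inv_cancel₀ hi, one_mul]

theorem fix_el {i : ZMod q} (hi : i ≠ 0) (j : ZMod q) :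
    fixBy φ (P.el i j) = fixBy φ (P.line (i⁻¹ * j)) := by
  rw [P.el_eq_zpw_line hi, pow_val_eq_of_commute_fix (P.line_pow_q _) hi]

theorem map_mem_line (i j k : ZMod q) {a : F} (ha : a ∈ fixBy φ (P.line k)) :
    φ (P.el i j) a ∈ fixBy φ (P.line k) :=
  map_mem_fixBy_of_commute φ (P.el_commute _ _ _ _) ha

theorem inf_line {k l : ZMod q} (hkl : k ≠ l) {a : F} (hk : a ∈ fixBy φ (P.line k))
    (hl : a ∈ fixBy φ (P.line l)) : a = 1 := by
  have h1 : a ∈ fixBy φ (P.el 0 (l - k)) := by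
    have h2 : P.el 0 (l - k) = P.line l * P.line k ^ (q - 1) := by
      rw [line, line, el_pow, el_mul, Nat.cast_sub hq.out.one_le, ZMod.natCast_self, Nat.cast_one,
        zero_sub, mul_one, add_neg_cancel, neg_one_mul, sub_eq_add_neg]
    rw [h2]
    exact mem_fixBy_mul φ hl (fixBy_le_pow φ _ _ hk)
  rw [el_zero_left, P.fix_zpw_z₀ (sub_ne_zero.mpr hkl.symm)] at h1
  exact mem_bot.mp h1

theorem nrm_line {k l : ZMod q} (hkl : k ≠ l) {a : F} (ha : a ∈ fixBy φ (P.line l)) :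
    nrm φ q (P.line k) a = 1 :=
  P.inf_line hkl (nrm_mem_fixBy φ (P.line_pow_q k) a)
    (nrm_mem φ (fun _ hc => P.map_mem_line _ _ _ hc) ha)

/-- The lines are conjugate. -/
def Trans : Prop := ∀ k : ZMod q, ∃ g : B, g * P.z * g⁻¹ = P.line k

theorem map_line_eq {g : B} {k : ZMod q} (hg : g * P.z * g⁻¹ = P.line k) :
    (fixBy φ P.z).map (φ g).toMonoidHom = fixBy φ (P.line k) := by
  refine le_antisymm ?_ fun a ha => ⟨φ g⁻¹ a, ?_, ?_⟩
  · rintro _ ⟨a, ha, rfl⟩
    exact hg ▸ map_mem_fixBy φ ha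
  · have := map_mem_fixBy φ (g := g⁻¹) ha
    rwa [← hg, inv_inv, show g⁻¹ * (g * P.z * g⁻¹) * g = P.z by group] at this
  · show φ g (φ g⁻¹ a) = a
    rw [← apply_mul, mul_inv_cancel, apply_one]

theorem card_line (hT : P.Trans) (k : ZMod q) :
    Nat.card (fixBy φ (P.line k)) = Nat.card (fixBy φ P.z) := by
  obtain ⟨g, hg⟩ := hT k
  rw [← P.map_line_eq hg, Subgroup.card_map_of_injective (φ g).injective]

theorem line_ne_bot (hT : P.Trans) (k : ZMod q) : fixBy φ (P.line k) ≠ ⊥ := by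
  obtain ⟨g, hg⟩ := hT k
  rw [← P.map_line_eq hg, Ne, Subgroup.map_eq_bot_iff_of_injective _ (φ g).injective]
  exact P.good

theorem false_of_two_lines (h : Hyp φ) (hT : P.Trans) {w : B} (hw : w ≠ 1) {k l : ZMod q} (hkl : k ≠ l)
    (hk : fixBy φ (P.line k) ≤ fixBy φ w) (hl : fixBy φ (P.line l) ≤ fixBy φ w) : False := by
  have := h.cyc w hw
  refine P.line_ne_bot hT k (eq_bot_of_cyclic hk hl ?_ ?_)
  · rw [P.card_line hT, P.card_line hT]
  · exact (eq_bot_iff_forall _).mpr fun a ha => P.inf_line hkl ha.1 ha.2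

/-- The centraliser of the plane is the plane. -/
theorem exists_el (h : Hyp φ) (hT : P.Trans) {w : B} (hw : Commute w P.z) (hw₀ : Commute w P.z₀) :
    ∃ i j, w = P.el i j := by
  classical
  let C := {w : B // Commute w P.z ∧ Commute w P.z₀}
  have hex : ∀ (x : C) (k : ZMod q), ∃ n : ZMod q, ∀ a ∈ fixBy φ (P.line k),
      φ x.1 a = φ (zpw q P.z₀ n) a := by
    intro x k
    have hg : Commute P.z₀ (P.line k) :=
      Commute.mul_right (P.comm.symm.pow_right _) ((Commute.refl _).pow_right _)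
    have hxk : Commute x.1 (P.line k) := Commute.mul_right (x.2.1.pow_right _) (x.2.2.pow_right _)
    obtain ⟨n, hn⟩ := h.galois (P.line k) P.z₀ x.1 (P.line_ne_one k) hg hxk
      (fun a _ ha => mem_bot.mp (P.fpf ▸ ha))
    exact ⟨(n : ZMod q), fun a ha => by rw [zpw_natCast P.z₀_pow]; exact hn a ha⟩
  choose n hn using hex
  have hinj : Function.Injective fun x : C => (n x 0, n x 1) := by
    intro x y hxy
    obtain ⟨h0, h1⟩ := Prod.mk.inj hxy
    have key : ∀ k, n x k = n y k → fixBy φ (P.line k) ≤ fixBy φ (x.1⁻¹ * y.1) := by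
      intro k hk a ha
      rw [mem_fixBy, apply_mul, hn y k a ha, ← hk, ← hn x k a ha, ← apply_mul, inv_mul_cancel, apply_one]
    refine Subtype.ext (inv_mul_eq_one.mp (by_contra fun hne => ?_))
    exact P.false_of_two_lines h hT hne zero_ne_one (key 0 h0) (key 1 h1)
  have hmem : ∀ p : ZMod q × ZMod q, Commute (P.el p.1 p.2) P.z ∧ Commute (P.el p.1 p.2) P.z₀ := fun p =>
    ⟨P.el_one_zero ▸ P.el_commute _ _ _ _, by
      have h2 := P.el_commute p.1 p.2 0 1
      rwa [P.el_zero_left, zpw_one P.z₀_pow] at h2⟩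
  let f : ZMod q × ZMod q → C := fun p => ⟨P.el p.1 p.2, hmem p⟩
  have hf : Function.Injective f := fun p p' hpp =>
    Prod.ext_iff.mpr (P.el_injective (congrArg Subtype.val hpp))
  have hb : Function.Bijective f :=
    hf.bijective_of_nat_card_le (Nat.card_le_card_of_injective _ hinj)
  obtain ⟨p, hp⟩ := hb.2 ⟨w, hw, hw₀⟩
  exact ⟨p.1, p.2, (congrArg Subtype.val hp).symm⟩

end Frame

end Cfsg.Agent.Bridge.BLemma
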