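import Cfsg.Agent.Bridge.BLemma.Frame

/-!
The normaliser of the plane of a frame is a `q`-group: an element of odd prime order `s ≠ q` would have two
regular orbits on the lines, so two independent isomorphic fixed groups.
-/

set_option autoImplicit false
set_option linter.unusedSectionVars false

namespace Cfsg.Agent.Bridge.BLemma

open Subgroup

variable {F B : Type*} [CommGroup F] [Finite F] [Group B] [Finite B] {φ : B →* MulAut F}
variable {q : ℕ} [hq : Fact q.Prime]

namespace Frame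

variable (P : Frame φ q)

theorem conj_el (g : B) {a b c : ZMod q} (h₀ : g * P.z₀ * g⁻¹ = P.el 0 a)
    (h₁ : g * P.z * g⁻¹ = P.el b c) (i j : ZMod q) :
    g * P.el i j * g⁻¹ = P.el (b * i) (c * i + a * j) := by
  have h : g * P.el i j * g⁻¹ = (g * P.z * g⁻¹) ^ i.val * (g * P.z₀ * g⁻¹) ^ j.val := by
    rw [conj_pow, conj_pow, el, zpw, zpw]; group
  rw [h, h₀, h₁, el_pow, el_pow, el_mul, ZMod.natCast_zmod_val, ZMod.natCast_zmod_val, mul_zero,
    add_zero, mul_comm b i, mul_comm c i, mul_comm a j]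

theorem exists_coord {g : B} (hT : P.Trans)
    (hn : ∀ i j, ∃ i' j', g * P.el i j * g⁻¹ = P.el i' j') :
    ∃ a b c, g * P.z₀ * g⁻¹ = P.el 0 a ∧ g * P.z * g⁻¹ = P.el b c ∧ a ≠ 0 ∧ b ≠ 0 := by
  obtain ⟨a', a, h₀⟩ := hn 0 1
  obtain ⟨b, c, h₁⟩ := hn 1 0
  rw [el_zero_left, zpw_one P.z₀_pow] at h₀
  rw [el_one_zero] at h₁
  have ha' : a' = 0 := by
    by_contra hne
    refine P.line_ne_bot hT (a'⁻¹ * a) ((eq_bot_iff_forall _).mpr fun x hx => ?_)
    rw [← P.fix_el hne, ← h₀] at hx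
    have hx' := map_mem_fixBy φ (g := g⁻¹) hx
    rw [inv_inv, show g⁻¹ * (g * P.z₀ * g⁻¹) * g = P.z₀ by group, P.fpf, mem_bot] at hx'
    exact (φ g⁻¹).injective (hx'.trans (map_one _).symm)
  subst ha'
  refine ⟨a, b, c, h₀, h₁, ?_, ?_⟩
  · rintro rfl
    rw [el_zero] at h₀
    exact P.z₀_ne (conj_eq_one_iff.mp h₀)
  · rintro rfl
    rcases eq_or_ne c 0 with rfl | hc
    · rw [el_zero] at h₁
      exact P.z_ne (conj_eq_one_iff.mp h₁)
    · refine P.good ((eq_bot_iff_forall _).mpr fun x hx => ?_)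
      have hx' := map_mem_fixBy φ (g := g) hx
      rw [h₁, el_zero_left, P.fix_zpw_z₀ hc, mem_bot] at hx'
      exact (φ g).injective (hx'.trans (map_one _).symm)

include P in
theorem q_ne_two (h : Hyp φ) : q ≠ 2 := by
  intro hq2
  have := orderOf_dvd_natCard P.z₀
  rw [orderOf_eq_prime P.z₀_pow P.z₀_ne, hq2] at this
  exact Nat.not_even_iff_odd.mpr h.odd (even_iff_two_dvd.mpr this)

theorem eq_one_of_normalizes (h : Hyp φ) (hT : P.Trans) {g : B} {s : ℕ} [hs : Fact s.Prime]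
    (hsq : s ≠ q) (hgs : g ^ s = 1) (hn : ∀ i j, ∃ i' j', g * P.el i j * g⁻¹ = P.el i' j') :
    g = 1 := by
  by_contra hg1
  have hs2 : s ≠ 2 := by
    rintro rfl
    have := orderOf_dvd_natCard g
    rw [orderOf_eq_prime hgs hg1] at this
    exact Nat.not_even_iff_odd.mpr h.odd (even_iff_two_dvd.mpr this)
  have hsodd : Odd s := hs.out.odd_of_ne_two hs2
  have hsK : (s : ZMod q) ≠ 0 := fun h0 => hsq
    ((Nat.prime_dvd_prime_iff_eq hq.out hs.out).mp ((ZMod.natCast_eq_zero_iff s q).mp h0)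
      |>.symm)
  obtain ⟨a, b, c, h₀, h₁, ha, hb⟩ := P.exists_coord hT hn
  have hconj := P.conj_el g h₀ h₁
  -- powers of `g`
  have hpow : ∀ m : ℕ, g ^ m * P.z₀ * (g ^ m)⁻¹ = P.el 0 (a ^ m) := by
    intro m
    induction m with
    | zero => rw [pow_zero, pow_zero, one_mul, inv_one, mul_one, el_zero_left, zpw_one P.z₀_pow]
    | succ m ih =>
      rw [pow_succ' g, mul_inv_rev, show g * g ^ m * P.z₀ * ((g ^ m)⁻¹ * g⁻¹) =
        g * (g ^ m * P.z₀ * (g ^ m)⁻¹) * g⁻¹ by group, ih, hconj, mul_zero, mul_zero, zero_add,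
        ← pow_succ']
  -- some line is fixed
  obtain ⟨k₀, hk₀⟩ : ∃ k₀, c + a * k₀ = b * k₀ := by
    rcases eq_or_ne a b with hab | hab
    · subst hab
      refine ⟨0, ?_⟩
      have hz : ∀ m : ℕ, g ^ m * P.z * (g ^ m)⁻¹ = P.el (a ^ m) (m * c * a ^ (m - 1)) := by
        intro m
        induction m with
        | zero => simp [el_one_zero]
        | succ m ih =>
          rw [pow_succ' g, mul_inv_rev, show g * g ^ m * P.z * ((g ^ m)⁻¹ * g⁻¹) =
            g * (g ^ m * P.z * (g ^ m)⁻¹) * g⁻¹ by group, ih, hconj, ← pow_succ',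
            Nat.add_sub_cancel]
          congr 1
          rcases m with _ | m
          · simp
          · rw [Nat.add_sub_cancel, Nat.cast_succ (m + 1), pow_succ a m]
            ring
      have h1 := hz s
      rw [hgs, one_mul, inv_one, mul_one, ← el_one_zero] at h1
      obtain ⟨-, h2⟩ := P.el_injective h1
      rcases mul_eq_zero.mp h2.symm with h3 | h3
      · rcases mul_eq_zero.mp h3 with h4 | h4
        · exact absurd h4 hsK
        · rw [h4, zero_add]
      · exact absurd h3 (pow_ne_zero _ ha)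
    · refine ⟨c / (b - a), ?_⟩
      have hba : b - a ≠ 0 := sub_ne_zero.mpr (Ne.symm hab)
      field_simp
      ring
  have hline : ∀ k, g * P.line k * g⁻¹ = P.el b (c + a * k) := fun k => by
    rw [line, hconj, mul_one, mul_one]
  -- `z₀` and `g` commute on the fixed line, so `g` centralises `z₀`
  set A := fixBy φ (P.line k₀)
  have : IsCyclic A := h.cyc _ (P.line_ne_one k₀)
  have hgA : ∀ x ∈ A, φ g x ∈ A := fun x hx => by
    have h1 := map_mem_fixBy φ (g := g) hx
    rwa [hline, P.fix_el hb, hk₀, ← mul_assoc, inv_mul_cancel₀ hb, one_mul] at h1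
  have hzA : ∀ x ∈ A, φ P.z₀ x ∈ A := fun x hx => by
    have h1 := P.map_mem_line 0 1 k₀ hx
    rwa [el_zero_left, zpw_one P.z₀_pow] at h1
  have ha1 : a = 1 := by
    by_contra hane
    obtain ⟨x, hxA, hx1⟩ := (bot_or_exists_ne_one A).resolve_left (P.line_ne_bot hT k₀)
    have h1 := apply_comm_of_cyclic φ hgA hzA hxA
    rw [show g * P.z₀ = P.el 0 a * g by rw [← h₀]; group, apply_mul, apply_mul] at h1
    have h2 : φ g x ∈ fixBy φ (P.el 0 (a - 1)) := by
      rw [mem_fixBy]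
      apply (φ P.z₀).injective
      rw [← apply_mul, ← h1]
      congr 2
      rw [← zpw_one P.z₀_pow, el_zero_left, el_zero_left, ← zpw_add P.z₀_pow, add_sub_cancel]
    rw [el_zero_left, P.fix_zpw_z₀ (sub_ne_zero.mpr hane), mem_bot] at h2
    exact hx1 ((φ g).injective (h2.trans (map_one _).symm))
  subst ha1
  have hgz₀ : Commute g P.z₀ := by
    rw [el_zero_left, zpw_one P.z₀_pow] at h₀
    exact mul_inv_eq_iff_eq_mul.mp h₀
  rcases eq_or_ne b 1 with hb1 | hb1
  · -- then `g` centralises the plane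
    subst hb1
    have hc0 : c = 0 := by linear_combination hk₀
    subst hc0
    rw [el_one_zero] at h₁
    obtain ⟨i, j, hij⟩ := P.exists_el h hT (mul_inv_eq_iff_eq_mul.mp h₁) hgz₀
    have h1 : orderOf g ∣ q := orderOf_dvd_of_pow_eq_one (hij ▸ P.el_pow_q i j)
    rw [orderOf_eq_prime hgs hg1] at h1
    exact hsq ((Nat.prime_dvd_prime_iff_eq hs.out hq.out).mp h1)
  -- the orbits of `g` on the other lines
  have hbs : b ^ s = 1 := by
    have hz : ∀ m : ℕ, ∃ c', g ^ m * P.z * (g ^ m)⁻¹ = P.el (b ^ m) c' := by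
      intro m
      induction m with
      | zero => exact ⟨0, by rw [pow_zero, pow_zero, one_mul, inv_one, mul_one, el_one_zero]⟩
      | succ m ih =>
        obtain ⟨c', hc'⟩ := ih
        refine ⟨c * b ^ m + 1 * c', ?_⟩
        rw [pow_succ' g, mul_inv_rev, show g * g ^ m * P.z * ((g ^ m)⁻¹ * g⁻¹) =
          g * (g ^ m * P.z * (g ^ m)⁻¹) * g⁻¹ by group, hc', hconj, ← pow_succ']
    obtain ⟨c', hc'⟩ := hz s
    rw [hgs, one_mul, inv_one, mul_one, ← el_one_zero] at hc'
    exact (P.el_injective hc').1.symm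
  have hord : ∀ i : ℕ, i < s → b⁻¹ ^ i = 1 → i = 0 := by
    intro i hi h1
    have h2 : orderOf b⁻¹ = s := orderOf_eq_prime (by rw [inv_pow, hbs, inv_one]) (by simpa using hb1)
    by_contra hi0
    exact pow_ne_one_of_lt_orderOf hi0 (h2 ▸ hi) h1
  have hstep : ∀ k, ∀ x ∈ fixBy φ (P.line (k₀ + k)), φ g x ∈ fixBy φ (P.line (k₀ + b⁻¹ * k)) := by
    intro k x hx
    have h1 := map_mem_fixBy φ (g := g) hx
    rw [hline, P.fix_el hb] at h1
    convert h1 using 3
    field_simp
    linear_combination -hk₀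
  have hiter : ∀ k, ∀ x ∈ fixBy φ (P.line (k₀ + k)), ∀ m : ℕ,
      φ (g ^ m) x ∈ fixBy φ (P.line (k₀ + b⁻¹ ^ m * k)) := by
    intro k x hx m
    induction m with
    | zero => rwa [pow_zero, pow_zero, one_mul, apply_one]
    | succ m ih =>
      rw [pow_succ' g, apply_mul, pow_succ' b⁻¹, mul_assoc]
      exact hstep _ _ ih
  have : NeZero s := ⟨hs.out.ne_zero⟩
  let T : ZMod q → Subgroup F := fun k => fixBy φ (P.line (k₀ + k))
  have hnz : ∀ k : ZMod q, k ≠ 0 → ∀ x ∈ T k, nrm φ q (P.line (k₀ + k)) (nrm φ s g x) = x ^ q := by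
    intro k hk x hx
    rw [show nrm φ s g x = ∏ i : ZMod s, φ (zpw s g i) x from rfl, nrm_prod]
    refine (Finset.prod_eq_single (0 : ZMod s) (fun i _ hi => ?_)
      (fun h0 => absurd (Finset.mem_univ _) h0)).trans ?_
    · refine P.nrm_line (fun he => hi ((ZMod.val_eq_zero i).mp (hord _ (ZMod.val_lt i) ?_))) (hiter k x hx i.val)
      exact mul_right_cancel₀ hk (by rw [one_mul]; exact (add_left_cancel he).symm)
    · rw [zpw_zero, apply_one]
      exact nrm_of_mem φ hx
  have hzero : ∀ k : ZMod q, k ≠ 0 → ∀ x ∈ T (-k), nrm φ q (P.line (k₀ + k)) (nrm φ s g x) = 1 := by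
    intro k hk x hx
    rw [show nrm φ s g x = ∏ i : ZMod s, φ (zpw s g i) x from rfl, nrm_prod]
    refine Finset.prod_eq_one fun i _ => P.nrm_line (fun he => ?_) (hiter _ x hx i.val)
    have h1 : b⁻¹ ^ i.val = -1 := mul_right_cancel₀ hk (by linear_combination he)
    have h2 : ((-1 : ZMod q)) ^ s = 1 := by
      rw [← h1, ← pow_mul, mul_comm, pow_mul, inv_pow, hbs, inv_one, one_pow]
    rw [hsodd.neg_one_pow] at h2
    have h3 : ((2 : ℕ) : ZMod q) = 0 := by push_cast; linear_combination -h2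
    have h4 := (Nat.prime_dvd_prime_iff_eq hq.out Nat.prime_two).mp ((ZMod.natCast_eq_zero_iff 2 q).mp h3)
    exact P.q_ne_two h h4
  let f : F →* F :=
    { toFun := nrm φ s g
      map_one' := by simp [nrm]
      map_mul' := fun x y => by simp only [nrm, map_mul, Finset.prod_mul_distrib] }
  have hcop := coprime_of_fpf φ P.z₀_pow P.fpf
  have hkey : ∀ k : ZMod q, k ≠ 0 → ∀ x ∈ T k, ∀ y ∈ T (-k), f x = f y → x = 1 := by
    intro k hk x hx y hy hxy
    refine eq_one_of_pow_eq_one hcop ?_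
    rw [← hnz k hk x hx, show nrm φ s g x = nrm φ s g y from hxy, hzero k hk y hy]
  have hinj : ∀ k : ZMod q, k ≠ 0 → Set.InjOn f (T k) := by
    intro k hk x hx y hy hxy
    refine div_eq_one.mp (hkey k hk (x / y) (div_mem hx hy) 1 (one_mem _) ?_)
    rw [map_div, hxy, div_self', map_one]
  have hle : ∀ k : ZMod q, (T k).map f ≤ fixBy φ g := by
    rintro k _ ⟨x, -, rfl⟩
    exact nrm_mem_fixBy φ hgs x
  have hcard : ∀ k : ZMod q, k ≠ 0 → Nat.card ((T k).map f) = Nat.card (fixBy φ P.z) := by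
    intro k hk
    rw [← P.card_line hT (k₀ + k)]
    exact Nat.card_image_of_injOn (hinj k hk)
  have h1q : (1 : ZMod q) ≠ 0 := one_ne_zero
  have := h.cyc g hg1
  have hbot := eq_bot_of_cyclic (hle 1) (hle (-1))
    (by rw [hcard 1 h1q, hcard (-1) (neg_ne_zero.mpr h1q)])
    ((eq_bot_iff_forall _).mpr fun w hw => by
      obtain ⟨⟨x, hx, rfl⟩, ⟨y, hy, hxy⟩⟩ := hw
      rw [hkey 1 h1q x hx y hy hxy.symm, map_one])
  refine P.good ?_
  rw [← Subgroup.card_eq_one, ← hcard 1 h1q, hbot, Subgroup.card_bot]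

end Frame

end Cfsg.Agent.Bridge.BLemma
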