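import Cfsg.Agent.Bridge.BLemma.FrameNormalizer
import Cfsg.Agent.PGroups.CyclicMaximal
import Cfsg.Agent.Cores.Fitting
import Mathlib.GroupTheory.Transfer
import Mathlib.GroupTheory.Solvable

/-!
The mixed lemma: some prime `q` has a cyclic Sylow subgroup in `B` all of whose non-trivial elements act
without fixed points (notes/helper76_bridge.md, 3(b)).
-/

set_option autoImplicit false
set_option linter.unusedSectionVars false

namespace Cfsg.Agent.Bridge.BLemma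

open Subgroup
open scoped commutatorElement

variable {F B : Type*} [CommGroup F] [Finite F] [Group B] [Finite B] {φ : B →* MulAut F}

theorem commNormal : (commutator B).Normal := inferInstance

theorem prime_ne_two (h : Hyp φ) {q : ℕ} [hq : Fact q.Prime] {x : B} (hx : x ^ q = 1) (hx1 : x ≠ 1) :
    q ≠ 2 := by
  intro hq2
  have := orderOf_dvd_natCard x
  rw [orderOf_eq_prime hx hx1, hq2] at this
  exact Nat.not_even_iff_odd.mpr h.odd (even_iff_two_dvd.mpr this)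

/-- A plane has a line with fixed points. -/
theorem exists_good_line [Nontrivial F] {q : ℕ} [hq : Fact q.Prime] {e w : B} (he : e ^ q = 1)
    (hw : w ^ q = 1) (hc : Commute w e) (hef : fixBy φ e = ⊥) (_hwf : fixBy φ w = ⊥) :
    ∃ k : ZMod q, fixBy φ (w * zpw q e k) ≠ ⊥ := by
  by_contra hall
  push Not at hall
  have h0 : ∀ k : ZMod q, (w * zpw q e k) ^ q = 1 := fun k => by
    rw [(show Commute w (zpw q e k) from hc.pow_right _).mul_pow, hw, one_mul, zpw, ← pow_mul, mul_comm, pow_mul, he, one_pow]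
  obtain ⟨a, ha⟩ := exists_ne (1 : F)
  refine ha (eq_one_of_pow_eq_one (coprime_of_fpf φ he hef) (mem_bot.mp ?_))
  refine pow_mem_of_plane φ he hw hc ⊥ (fun c hc' => by rw [mem_bot.mp hc', map_one]) a ?_ fun k => ?_
  · rw [← hef]; exact nrm_mem_fixBy φ he a
  · rw [← hall k]; exact nrm_mem_fixBy φ (h0 k) a

/-- A frame inside a Sylow subgroup with a good element. -/
theorem exists_frame [Nontrivial F] (h : Hyp φ) {q : ℕ} [hq : Fact q.Prime] (Q : Sylow q B)
    (hQ : ¬ (Q : Subgroup B) ≤ commutator B) {w : B} (hw : w ∈ (Q : Subgroup B)) (hwq : w ^ q = 1)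
    (hw1 : w ≠ 1) (hwg : fixBy φ w ≠ ⊥) :
    ∃ P : Frame φ q, P.Trans ∧ P.z ∈ (Q : Subgroup B) ∧ P.z₀ ∈ (Q : Subgroup B) ∧
      P.z ∈ commutator B ∧ P.z₀ ∈ commutator B ∧ (∀ g ∈ (Q : Subgroup B), Commute g P.z₀) ∧
      (∀ g ∈ (Q : Subgroup B), ∃ i, g * P.z * g⁻¹ = P.el 1 i) := by
  classical
  have hp : IsPGroup q (Q : Subgroup B) := Q.isPGroup'
  have hcentre : ∀ x ∈ (Q : Subgroup B), (∀ g ∈ (Q : Subgroup B), Commute g x) → x ≠ 1 →
      fixBy φ x = ⊥ := fun x hx hxc hx1 => by_contra fun hne => hQ (h.centre q Q x hx hxc hx1 hne)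
  have hnc : ¬ IsCyclic (Q : Subgroup B) := by
    intro hcy
    refine hwg (hcentre w hw (fun g hg => ?_) hw1)
    let _ := hcy.commGroup
    exact congrArg Subtype.val (mul_comm (⟨g, hg⟩ : (Q : Subgroup B)) ⟨w, hw⟩)
  obtain ⟨E, hEn, hEc, hEq, hEcard⟩ :=
    PGroups.exists_normal_elementary_sq hp (prime_ne_two h hwq hw1) hnc
  have hEne : E ≠ ⊥ := by
    intro hb
    rw [hb, card_bot] at hEcard
    exact absurd hEcard.symm (Nat.one_lt_pow two_ne_zero hq.out.one_lt).ne'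
  obtain ⟨⟨z₀, hz₀Q⟩, hz₀E, hz₀c, hz₀o⟩ := PGroups.exists_mem_center_orderOf_eq hp E hEne
  rw [orderOf_mk] at hz₀o
  have hz₀q : z₀ ^ q = 1 := hz₀o ▸ pow_orderOf_eq_one z₀
  have hz₀1 : z₀ ≠ 1 := fun he => hq.out.ne_one (by rw [← hz₀o, he, orderOf_one])
  have hz₀cen : ∀ g ∈ (Q : Subgroup B), Commute g z₀ := fun g hg =>
    congrArg Subtype.val (mem_center_iff.mp hz₀c ⟨g, hg⟩)
  have hf : fixBy φ z₀ = ⊥ := hcentre z₀ hz₀Q hz₀cen hz₀1
  -- an element of `E` outside `⟨z₀⟩`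
  obtain ⟨x, hxE, hxz⟩ : ∃ x ∈ E, (x : B) ∉ zpowers z₀ := by
    by_contra hall
    push Not at hall
    have h1 : E.map (Q : Subgroup B).subtype ≤ zpowers z₀ := by
      rintro _ ⟨x, hx, rfl⟩
      exact hall x hx
    have h2 := card_le_of_le h1
    rw [card_map_of_injective (Subgroup.subtype_injective _), hEcard, Nat.card_zpowers, hz₀o] at h2
    nlinarith [hq.out.two_le]
  have hxq : (x : B) ^ q = 1 := congrArg Subtype.val (hEq x hxE)
  have hxc : Commute (x : B) z₀ := hz₀cen x x.2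
  obtain ⟨z, hzE, hzz, hzg⟩ :
      ∃ z : (Q : Subgroup B), z ∈ E ∧ (z : B) ∉ zpowers z₀ ∧ fixBy φ (z : B) ≠ ⊥ := by
    by_cases hxg : fixBy φ (x : B) = ⊥
    · obtain ⟨k, hk⟩ := exists_good_line hz₀q hxq hxc hf hxg
      refine ⟨x * ⟨zpw q z₀ k, pow_mem hz₀Q _⟩, E.mul_mem hxE ?_, fun hm => hxz ?_, hk⟩
      · have : (⟨zpw q z₀ k, pow_mem hz₀Q _⟩ : (Q : Subgroup B)) = ⟨z₀, hz₀Q⟩ ^ k.val :=
          Subtype.ext (by simp [zpw])
        rw [this]
        exact pow_mem hz₀E _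
      · have h1 : (x : B) * zpw q z₀ k ∈ zpowers z₀ := hm
        exact (Subgroup.mul_mem_cancel_right _ (npow_mem_zpowers z₀ k.val)).mp h1
    · exact ⟨x, hxE, hxz, hxg⟩
  have hzq : (z : B) ^ q = 1 := congrArg Subtype.val (hEq z hzE)
  have hz1 : (z : B) ≠ 1 := fun he => hzz (he ▸ one_mem _)
  let P : Frame φ q :=
    { z₀ := z₀, z := z, z₀_pow := hz₀q, z_pow := hzq, comm := hz₀cen z z.2, fpf := hf, good := hzg
      z_ne := hz1, z₀_ne := hz₀1 }
  -- `E` is the plane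
  have helQ : ∀ i j, P.el i j ∈ (Q : Subgroup B) := fun i j =>
    mul_mem (pow_mem z.2 _) (pow_mem hz₀Q _)
  have helE : ∀ i j, (⟨P.el i j, helQ i j⟩ : (Q : Subgroup B)) ∈ E := by
    intro i j
    have : (⟨P.el i j, helQ i j⟩ : (Q : Subgroup B)) = z ^ i.val * ⟨z₀, hz₀Q⟩ ^ j.val :=
      Subtype.ext (by simp [Frame.el, zpw, P])
    rw [this]
    exact E.mul_mem (pow_mem hzE _) (pow_mem hz₀E _)
  have hEall : ∀ y ∈ E, ∃ i j, (y : B) = P.el i j := by
    let f : ZMod q × ZMod q → E := fun p => ⟨_, helE p.1 p.2⟩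
    have hinj : Function.Injective f := fun p p' hpp =>
      Prod.ext_iff.mpr (P.el_injective (congrArg (fun y : E => ((y : (Q : Subgroup B)) : B)) hpp))
    have hb : Function.Bijective f := hinj.bijective_of_nat_card_le
      (by rw [hEcard, Nat.card_prod, Nat.card_zmod, sq])
    intro y hy
    obtain ⟨p, hp⟩ := hb.2 ⟨y, hy⟩
    exact ⟨p.1, p.2, (congrArg (fun y : E => ((y : (Q : Subgroup B)) : B)) hp).symm⟩
  have hconjz : ∀ g ∈ (Q : Subgroup B), ∃ b c, g * (z : B) * g⁻¹ = P.el b c := by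
    intro g hg
    exact hEall _ (hEn.conj_mem z hzE ⟨g, hg⟩)
  -- `Q` is trivial on `E/⟨z₀⟩`
  have hone : ∀ g ∈ (Q : Subgroup B), ∀ b c, g * (z : B) * g⁻¹ = P.el b c → b = 1 := by
    intro g hg b c hbc
    have h₀ : g * P.z₀ * g⁻¹ = P.el 0 1 := by
      rw [P.el_zero_left, zpw_one P.z₀_pow, (hz₀cen g hg).eq, mul_inv_cancel_right]
    have hit : ∀ m : ℕ, ∃ c', g ^ m * (z : B) * (g ^ m)⁻¹ = P.el (b ^ m) c' := by
      intro m
      induction m with
      | zero => exact ⟨0, by rw [pow_zero, pow_zero, one_mul, inv_one, mul_one, P.el_one_zero]⟩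
      | succ m ih =>
        obtain ⟨c', hc'⟩ := ih
        refine ⟨c * b ^ m + 1 * c', ?_⟩
        rw [pow_succ' g, mul_inv_rev, show g * g ^ m * (z : B) * ((g ^ m)⁻¹ * g⁻¹) =
          g * (g ^ m * (z : B) * (g ^ m)⁻¹) * g⁻¹ by group, hc', P.conj_el g h₀ hbc, ← pow_succ']
    obtain ⟨n, hn⟩ := hp ⟨g, hg⟩
    obtain ⟨c', hc'⟩ := hit (q ^ n)
    rw [show g ^ q ^ n = 1 from congrArg Subtype.val hn, one_mul, inv_one, mul_one] at hc'
    have h1 : P.el 1 0 = P.el (b ^ q ^ n) c' := P.el_one_zero.trans hc'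
    rw [(P.el_injective h1).1, ZMod.pow_card_pow]
  have hline : ∀ g ∈ (Q : Subgroup B), ∃ i, g * (z : B) * g⁻¹ = P.el 1 i := fun g hg => by
    obtain ⟨b, c, hbc⟩ := hconjz g hg
    exact ⟨c, hone g hg b c hbc ▸ hbc⟩
  -- some element of `Q` moves `z`
  obtain ⟨g₁, hg₁, i₁, hi₁, hgi⟩ :
      ∃ g ∈ (Q : Subgroup B), ∃ i : ZMod q, i ≠ 0 ∧ g * (z : B) * g⁻¹ = P.el 1 i := by
    by_contra hall
    push Not at hall
    refine hzg (hcentre z z.2 (fun g hg => ?_) hz1)
    obtain ⟨i, hi⟩ := hline g hg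
    rcases eq_or_ne i 0 with rfl | hne
    · rw [P.el_one_zero] at hi
      exact mul_inv_eq_iff_eq_mul.mp hi
    · exact absurd hi (hall g hg i hne)
  have h₀ : ∀ g ∈ (Q : Subgroup B), g * P.z₀ * g⁻¹ = P.el 0 1 := fun g hg => by
    rw [P.el_zero_left, zpw_one P.z₀_pow, (hz₀cen g hg).eq, mul_inv_cancel_right]
  have hpow : ∀ m : ℕ, g₁ ^ m * (z : B) * (g₁ ^ m)⁻¹ = P.el 1 (m * i₁) := by
    intro m
    induction m with
    | zero => simp [P.el_one_zero, P]
    | succ m ih =>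
      rw [pow_succ' g₁, mul_inv_rev, show g₁ * g₁ ^ m * (z : B) * ((g₁ ^ m)⁻¹ * g₁⁻¹) =
        g₁ * (g₁ ^ m * (z : B) * (g₁ ^ m)⁻¹) * g₁⁻¹ by group, ih,
        P.conj_el g₁ (h₀ g₁ hg₁) hgi, one_mul, mul_one, one_mul, Nat.cast_succ, add_mul, one_mul,
        add_comm i₁]
  have hT : P.Trans := fun k => ⟨g₁ ^ (k * i₁⁻¹).val, by
    show g₁ ^ _ * (z : B) * _ = _
    rw [hpow, ZMod.natCast_zmod_val, inv_mul_cancel_right₀ hi₁]
    rfl⟩
  have hzc : (z : B) ∈ commutator B :=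
    h.goodPow z q 1 hq.out (by rw [pow_one]; exact orderOf_eq_prime hzq hz1) z (mem_zpowers _) hz1 hzg
  have hz₀' : z₀ ∈ commutator B := by
    have h1 : zpw q z₀ i₁ ∈ commutator B := by
      have h2 : ⁅g₁, (z : B)⁆ ∈ commutator B := by
        rw [_root_.commutator_def]; exact commutator_mem_commutator (mem_top _) (mem_top _)
      rw [commutatorElement_def, hgi, Frame.el, zpw_one P.z_pow,
        show P.z * zpw q P.z₀ i₁ = zpw q P.z₀ i₁ * P.z from (P.comm.pow_right i₁.val).eq,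
        show ((z : B)) = P.z from rfl, mul_inv_cancel_right] at h2
      exact h2
    have h2 := pow_mem h1 (i₁⁻¹).val
    rw [← zpw_mul hz₀q, mul_inv_cancel₀ hi₁, zpw_one hz₀q] at h2
    exact h2
  exact ⟨P, hT, z.2, hz₀Q, hzc, hz₀', hz₀cen, hline⟩

/-- The plane as a subgroup. -/
def Frame.plane {q : ℕ} [Fact q.Prime] (P : Frame φ q) : Subgroup B where
  carrier := {y | ∃ i j, y = P.el i j}
  one_mem' := ⟨0, 0, P.el_zero.symm⟩
  mul_mem' := by rintro _ _ ⟨i, j, rfl⟩ ⟨i', j', rfl⟩; exact ⟨_, _, P.el_mul _ _ _ _⟩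
  inv_mem' := by rintro _ ⟨i, j, rfl⟩; exact ⟨_, _, P.el_inv _ _⟩

theorem Frame.card_plane {q : ℕ} [Fact q.Prime] (P : Frame φ q) : Nat.card P.plane = q ^ 2 := by
  let f : ZMod q × ZMod q → P.plane := fun p => ⟨P.el p.1 p.2, p.1, p.2, rfl⟩
  have hf : Function.Bijective f := by
    refine ⟨fun p p' h => Prod.ext_iff.mpr (P.el_injective (congrArg Subtype.val h)), ?_⟩
    rintro ⟨_, i, j, rfl⟩
    exact ⟨(i, j), rfl⟩
  rw [← Nat.card_congr (Equiv.ofBijective f hf), Nat.card_prod, Nat.card_zmod, sq]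

/-- The prime without harmful good elements. -/
theorem not_good_of_pow [Nontrivial F] (h : Hyp φ) {q : ℕ} [hq : Fact q.Prime] (Q : Sylow q B)
    (hQ : ¬ (Q : Subgroup B) ≤ commutator B) {w : B} (hw : w ∈ (Q : Subgroup B)) (hwq : w ^ q = 1)
    (hw1 : w ≠ 1) : fixBy φ w = ⊥ := by
  classical
  by_contra hwg
  obtain ⟨P, hT, hzQ, hz₀Q, hzc, hz₀c, hcen, hline⟩ := exists_frame h Q hQ hw hwq hw1 hwg
  set E := P.plane with hE
  have hp : IsPGroup q (Q : Subgroup B) := Q.isPGroup'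
  have hEQ : E ≤ Q := by
    rintro _ ⟨i, j, rfl⟩
    exact mul_mem (pow_mem hzQ _) (pow_mem hz₀Q _)
  have hEc : E ≤ commutator B := by
    rintro _ ⟨i, j, rfl⟩
    exact mul_mem (pow_mem hzc _) (pow_mem hz₀c _)
  have hz₀ : ∀ g ∈ (Q : Subgroup B), g * P.z₀ * g⁻¹ = P.el 0 1 := fun g hg => by
    rw [P.el_zero_left, zpw_one P.z₀_pow, (hcen g hg).eq, mul_inv_cancel_right]
  -- `|Q| ≤ q ^ 3`
  choose! ι hι using hline
  have hfib : ∀ g ∈ (Q : Subgroup B), ∀ g' ∈ (Q : Subgroup B), ι g = ι g' → g⁻¹ * g' ∈ E := by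
    intro g hg g' hg' he
    have h1 : g * P.z * g⁻¹ = g' * P.z * g'⁻¹ := by rw [hι g hg, hι g' hg', he]
    have h2 : Commute (g⁻¹ * g') P.z := by
      show g⁻¹ * g' * P.z = P.z * (g⁻¹ * g')
      rw [show g⁻¹ * g' * P.z = g⁻¹ * (g' * P.z * g'⁻¹) * g' by group, ← h1]
      group
    exact P.exists_el h hT h2 (hcen _ (mul_mem (inv_mem hg) hg'))
  have hidx : E.relIndex (Q : Subgroup B) ≤ q := by
    let E' := E.subgroupOf (Q : Subgroup B)
    show Nat.card ((Q : Subgroup B) ⧸ E') ≤ q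
    refine (Nat.card_le_card_of_injective (fun c => ι ((Quotient.out c : (Q : Subgroup B)) : B)) ?_).trans
      (le_of_eq (Nat.card_zmod q))
    intro c c' hcc
    rw [← QuotientGroup.out_eq' c, ← QuotientGroup.out_eq' c', QuotientGroup.eq, mem_subgroupOf]
    exact hfib _ (Subtype.prop _) _ (Subtype.prop _) hcc
  -- an element outside `B'`
  obtain ⟨x, hxQ, hxc⟩ := SetLike.not_le_iff_exists.mp hQ
  have hxE : x ∉ E := fun hx => hxc (hEc hx)
  have hxfix : ∀ y ∈ zpowers x, y ≠ 1 → fixBy φ y = ⊥ := fun y hy hy1 => by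
    by_contra hne
    obtain ⟨k, hk⟩ := IsPGroup.iff_orderOf.mp hp ⟨x, hxQ⟩
    rw [orderOf_mk] at hk
    exact hxc (h.goodPow x q k hq.out hk y hy hy1 hne)
  -- `B'` meets `Q` in `E`
  have hBQ : commutator B ⊓ Q = E := by
    refine le_antisymm ?_ (le_inf hEc hEQ)
    have h1 := Subgroup.relIndex_mul_relIndex E (commutator B ⊓ Q) Q (le_inf hEc hEQ) inf_le_right
    rw [← relIndex_eq_one]
    obtain ⟨a, ha⟩ : ∃ a, E.relIndex (Q : Subgroup B) = q ^ a := by
      obtain ⟨n, hn⟩ := IsPGroup.iff_card.mp hp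
      obtain ⟨a, -, ha⟩ := (Nat.dvd_prime_pow hq.out).mp
        (hn ▸ Subgroup.relIndex_dvd_card (H := E) (K := (Q : Subgroup B)))
      exact ⟨a, ha⟩
    have ha1 : a ≤ 1 := (Nat.pow_le_pow_iff_right hq.out.one_lt).mp (by rw [← ha, pow_one]; exact hidx)
    have hne : (commutator B ⊓ Q).relIndex (Q : Subgroup B) ≠ 1 := fun he =>
      hQ ((relIndex_eq_one.mp he).trans inf_le_left)
    have hdvd : (commutator B ⊓ Q).relIndex (Q : Subgroup B) ∣ q :=
      (Dvd.intro_left _ h1).trans (by rw [ha]; exact (pow_dvd_pow q ha1).trans (by rw [pow_one]))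
    rw [(hq.out.eq_one_or_self_of_dvd _ hdvd).resolve_left hne, ha] at h1
    interval_cases a
    · rw [pow_zero] at h1
      exact absurd (Nat.eq_one_of_mul_eq_one_left h1) hq.out.ne_one
    · rw [pow_one] at h1
      exact (Nat.mul_eq_right hq.out.ne_zero).mp h1
  -- the normaliser of `E` is `Q`
  have hQn : ∀ g ∈ (Q : Subgroup B), g ∈ normalizer (E : Set B) := by
    intro g hg
    refine mem_normalizer_fintype ?_
    rintro _ ⟨i, j, rfl⟩
    exact ⟨_, _, P.conj_el g (hz₀ g hg) (hι g hg) i j⟩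
  have hNp : IsPGroup q (normalizer (E : Set B)) := by
    intro g
    obtain ⟨a, b, hab⟩ : ∃ a b, orderOf g = q ^ a * b ∧ ¬ q ∣ b :=
      ⟨_, _, (Nat.ordProj_mul_ordCompl_eq_self (orderOf g) q).symm,
        Nat.not_dvd_ordCompl hq.out (orderOf_pos g).ne'⟩
    rcases eq_or_ne b 1 with rfl | hb
    · exact ⟨a, by rw [← mul_one (q ^ a), ← hab.1]; exact pow_orderOf_eq_one g⟩
    exfalso
    obtain ⟨s, hs, hsb⟩ := Nat.exists_prime_and_dvd hb
    have := Fact.mk hs
    have hsd : s ∣ Nat.card (normalizer (E : Set B)) :=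
      (hsb.trans (hab.1 ▸ dvd_mul_left b _)).trans (orderOf_dvd_natCard g)
    obtain ⟨y, hy⟩ := exists_prime_orderOf_dvd_card' s hsd
    have hy' : orderOf (y : B) = s := by rw [orderOf_coe, hy]
    have h1 := P.eq_one_of_normalizes h hT (g := (y : B)) (s := s) (fun hsq => hab.2 (hsq ▸ hsb))
      (hy' ▸ pow_orderOf_eq_one _) fun i j => by
        obtain ⟨i', j', hij⟩ := (mem_normalizer_iff.mp y.2 (P.el i j)).mp ⟨i, j, rfl⟩
        exact ⟨i', j', hij⟩
    rw [h1, orderOf_one] at hy'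
    exact hs.ne_one hy'.symm
  have hN : normalizer (E : Set B) = Q := Q.is_maximal' hNp hQn
  -- `E` is a Sylow subgroup of `B'` centralised by its normaliser
  set D := commutator B with hD
  have hEp : IsPGroup q (E.subgroupOf D) := (hp.to_le hEQ).comap_subtype
  obtain ⟨R, hR⟩ := hEp.exists_le_sylow
  have hRE : (R : Subgroup D) = E.subgroupOf D := by
    obtain ⟨Q', hQ'⟩ := (R.isPGroup'.map D.subtype).exists_le_sylow
    obtain ⟨g, rfl⟩ := MulAction.exists_smul_eq B Q Q'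
    refine (eq_of_le_of_card_ge hR ?_).symm
    have h1 : (R : Subgroup D).map D.subtype ≤
        (D ⊓ Q).map (MulAut.conj g).toMonoidHom := by
      intro y hy
      have hyD : y ∈ D := by obtain ⟨d, -, rfl⟩ := hy; exact d.2
      obtain ⟨y', hy', rfl⟩ := hQ' hy
      exact ⟨y', ⟨by simpa [mul_assoc] using (commNormal (B := B)).conj_mem _ hyD g⁻¹, hy'⟩, rfl⟩
    have h2 := card_le_of_le h1
    rw [card_map_of_injective (Subgroup.subtype_injective _),
      card_map_of_injective (MulAut.conj g).injective, hBQ] at h2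
    exact h2.trans (le_of_eq (Nat.card_congr (subgroupOfEquivOfLe hEc).toEquiv).symm)
  have hRn : normalizer ((R : Subgroup D) : Set D) ≤ centralizer ((R : Subgroup D) : Set D) := by
    intro d hd
    have hdN : (d : B) ∈ normalizer (E : Set B) := by
      refine mem_normalizer_fintype fun e he => ?_
      have := (mem_normalizer_iff.mp hd ⟨e, hEc he⟩).mp (by rw [hRE]; exact he)
      rwa [hRE] at this
    have hdE : (d : B) ∈ E := hBQ ▸ ⟨d.2, hN ▸ hdN⟩
    obtain ⟨i, j, hij⟩ := hdE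
    rw [mem_centralizer_iff]
    intro r hr
    rw [hRE] at hr
    obtain ⟨i', j', hij'⟩ := hr
    exact Subtype.ext (show (r : B) * d = d * r by
      rw [hij, show (r : B) = P.el i' j' from hij']; exact (P.el_commute _ _ _ _).eq)
  set K := (MonoidHom.transferSylow R hRn).ker with hK
  have hKc : IsComplement' K (R : Subgroup D) := MonoidHom.ker_transferSylow_isComplement' R hRn
  have hKq : ¬ q ∣ Nat.card K := MonoidHom.not_dvd_card_ker_transferSylow R hRn
  -- elements of `B'` of order prime to `q` lie in `K`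
  have hKmem : ∀ d : D, ¬ q ∣ orderOf d → d ∈ K := by
    intro d hd
    refine orderOf_eq_one_iff.mp (Nat.eq_one_of_dvd_coprimes ?_
      (orderOf_map_dvd (MonoidHom.transferSylow R hRn) d) (orderOf_dvd_natCard _))
    obtain ⟨n, hn⟩ := IsPGroup.iff_card.mp R.isPGroup'
    rw [hn]
    exact ((hq.out.coprime_iff_not_dvd.mpr hd).pow_left n).symm
  set M := K.map D.subtype with hM
  have hMn : M.Normal := by
    constructor
    rintro _ ⟨k, hk, rfl⟩ g
    refine ⟨⟨g * k * g⁻¹, (commNormal (B := B)).conj_mem _ k.2 g⟩, hKmem _ fun hd => ?_, rfl⟩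
    rw [← orderOf_coe] at hd
    change q ∣ orderOf (MulAut.conj g (k : B)) at hd
    rw [(MulAut.conj g).orderOf_eq, orderOf_coe] at hd
    exact hKq (hd.trans (Subgroup.orderOf_dvd_natCard _ hk))
  -- `B = M Q`
  have hall : ∀ b : B, ∃ m ∈ M, ∃ y ∈ (Q : Subgroup B), b = m * y := by
    have hsup := Sylow.normalizer_sup_eq_top R
    have hRmap : (R : Subgroup D).map D.subtype = E := by
      rw [hRE, map_subgroupOf_eq_of_le hEc]
    rw [hRmap, hN] at hsup
    intro b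
    obtain ⟨y, hy, d, hd, rfl⟩ := mem_sup_of_normal_right.mp (hsup ▸ mem_top b :
      b ∈ (Q : Subgroup B) ⊔ D)
    obtain ⟨⟨⟨k, hk⟩, ⟨r, hr⟩⟩, hkr⟩ := hKc.existsUnique ⟨d, hd⟩ |>.exists
    refine ⟨y * k * y⁻¹, hMn.conj_mem _ ⟨k, hk, rfl⟩ y, y * r,
      mul_mem hy (hEQ (by rw [hRE] at hr; exact hr)), ?_⟩
    have hd' : d = (k : B) * r := (congrArg Subtype.val hkr).symm
    rw [hd']
    group
  -- `B / M⟨z₀⟩` is abelian
  set N := M ⊔ zpowers P.z₀ with hNdef
  have hmemN : ∀ n ∈ N, ∀ y ∈ (Q : Subgroup B), y * n * y⁻¹ ∈ N := by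
    intro n hn y hy
    obtain ⟨m, hm, c, hc, rfl⟩ := mem_sup_of_normal_left.mp hn
    obtain ⟨i, rfl⟩ := mem_zpowers_iff.mp hc
    rw [show y * (m * P.z₀ ^ i) * y⁻¹ = y * m * y⁻¹ * (y * P.z₀ ^ i * y⁻¹) by group,
      ((hcen y hy).zpow_right i).eq, mul_inv_cancel_right]
    exact mul_mem (mem_sup_left (hMn.conj_mem m hm y)) (mem_sup_right (zpow_mem (mem_zpowers _) i))
  have hNn : N.Normal := by
    constructor
    intro n hn b
    obtain ⟨m, hm, y, hy, rfl⟩ := hall b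
    rw [show m * y * n * (m * y)⁻¹ = m * (y * n * y⁻¹) * m⁻¹ by group]
    exact mul_mem (mul_mem (mem_sup_left hm) (hmemN n hn y hy)) (inv_mem (mem_sup_left hm))
  let π := QuotientGroup.mk' N
  have hπm : ∀ m ∈ M, π m = 1 := fun m hm =>
    (QuotientGroup.eq_one_iff m).mpr (mem_sup_left hm)
  have hπ₀ : π P.z₀ = 1 := (QuotientGroup.eq_one_iff _).mpr (mem_sup_right (mem_zpowers _))
  have hzcen : ∀ y ∈ (Q : Subgroup B), Commute (π y) (π P.z) := by
    intro y hy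
    have h1 := congrArg π (hι y hy)
    rw [map_mul, map_mul, map_inv, Frame.el, zpw_one P.z_pow, map_mul, zpw, map_pow, hπ₀, one_pow,
      mul_one] at h1
    exact mul_inv_eq_iff_eq_mul.mp h1
  have hQgen : (Q : Subgroup B) ≤ E ⊔ zpowers x := by
    rw [← relIndex_eq_one]
    have h1 := Subgroup.relIndex_mul_relIndex E (E ⊔ zpowers x) Q le_sup_left
      (sup_le hEQ (zpowers_le.mpr hxQ))
    have hne : E.relIndex (E ⊔ zpowers x) ≠ 1 := fun he =>
      hxE (relIndex_eq_one.mp he (mem_sup_right (mem_zpowers x)))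
    obtain ⟨n, hn⟩ := IsPGroup.iff_card.mp hp
    obtain ⟨a, -, ha⟩ := (Nat.dvd_prime_pow hq.out).mp
      (hn ▸ Subgroup.relIndex_dvd_card (H := E) (K := (Q : Subgroup B)))
    have ha1 : a ≤ 1 := (Nat.pow_le_pow_iff_right hq.out.one_lt).mp (by rw [← ha, pow_one]; exact hidx)
    have h2 : E.relIndex (E ⊔ zpowers x) ∣ q :=
      (Dvd.intro _ h1).trans (by rw [ha]; exact (pow_dvd_pow q ha1).trans (by rw [pow_one]))
    rw [(hq.out.eq_one_or_self_of_dvd _ h2).resolve_left hne, ha] at h1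
    interval_cases a
    · rw [pow_zero] at h1
      exact absurd (Nat.eq_one_of_mul_eq_one_right h1) hq.out.ne_one
    · rw [pow_one] at h1
      exact (Nat.mul_eq_left hq.out.ne_zero).mp h1
  have hQab : ∀ y ∈ (Q : Subgroup B), ∀ y' ∈ (Q : Subgroup B), Commute (π y) (π y') := by
    have hle : (Q : Subgroup B).map π ≤ closure {π P.z, π x} := by
      refine le_trans (map_mono hQgen) ?_
      rw [Subgroup.map_sup, sup_le_iff]
      constructor
      · rintro _ ⟨_, ⟨i, j, rfl⟩, rfl⟩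
        rw [Frame.el, map_mul, zpw, zpw, map_pow, map_pow, hπ₀, one_pow, mul_one]
        exact pow_mem (subset_closure (Set.mem_insert _ _)) _
      · rw [MonoidHom.map_zpowers, zpowers_le]
        exact subset_closure (Set.mem_insert_of_mem _ rfl)
    have hc : ∀ u ∈ ({π P.z, π x} : Set (B ⧸ N)), ∀ v ∈ ({π P.z, π x} : Set (B ⧸ N)), u * v = v * u := by
      rintro u (rfl | rfl) v (rfl | rfl)
      · rfl
      · exact (hzcen x hxQ).symm.eq
      · exact (hzcen x hxQ).eq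
      · rfl
    have : IsMulCommutative (closure ({π P.z, π x} : Set (B ⧸ N))) :=
      Subgroup.isMulCommutative_closure hc
    intro y hy y' hy'
    exact congrArg Subtype.val (mul_comm'
      (⟨π y, hle (mem_map_of_mem π hy)⟩ : closure ({π P.z, π x} : Set (B ⧸ N)))
      ⟨π y', hle (mem_map_of_mem π hy')⟩)
  have hDN : D ≤ N := by
    rw [hD, _root_.commutator_def, commutator_le]
    intro g _ g' _
    obtain ⟨m, hm, y, hy, rfl⟩ := hall g
    obtain ⟨m', hm', y', hy', rfl⟩ := hall g'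
    refine (QuotientGroup.eq_one_iff _).mp ?_
    show π _ = 1
    rw [map_commutatorElement, map_mul, map_mul, hπm m hm, hπm m' hm', one_mul, one_mul]
    exact commutatorElement_eq_one_iff_commute.mpr (hQab y hy y' hy')
  obtain ⟨m, hm, c, hc, hmc⟩ := mem_sup_of_normal_left.mp (hDN hzc)
  have hcE : c ∈ E := by
    obtain ⟨i, rfl⟩ := mem_zpowers_iff.mp hc
    exact zpow_mem (show P.z₀ ∈ E from ⟨0, 1, by rw [P.el_zero_left, zpw_one P.z₀_pow]⟩) i
  have hm1 : m = 1 := by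
    obtain ⟨k, hk, rfl⟩ := hm
    have hkE : (k : B) ∈ E := by
      have h1 : (k : B) = P.z * c⁻¹ := eq_mul_inv_of_mul_eq hmc
      rw [h1]
      exact mul_mem ⟨1, 0, P.el_one_zero.symm⟩ (inv_mem hcE)
    have h2 : k ∈ K ⊓ (R : Subgroup D) := ⟨hk, by rw [hRE]; exact hkE⟩
    rw [hKc.disjoint.eq_bot, mem_bot] at h2
    rw [h2]; rfl
  rw [hm1, one_mul] at hmc
  rw [hmc] at hc
  obtain ⟨i, hi⟩ := mem_zpowers_iff.mp hc
  have hfix := P.good
  rw [← hi] at hfix
  apply hfix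
  obtain ⟨j, hj⟩ : ∃ j : ℕ, P.z₀ ^ i = P.z₀ ^ j := by
    obtain ⟨j, hj⟩ := mem_powers_iff_mem_zpowers.mpr (⟨i, rfl⟩ : P.z₀ ^ i ∈ zpowers P.z₀)
    exact ⟨j, hj.symm⟩
  rw [hj, ← zpw_natCast P.z₀_pow]
  refine P.fix_zpw_z₀ fun h0 => P.z_ne ?_
  rw [← hi, hj, ← zpw_natCast P.z₀_pow, h0, zpw_zero]

/-- The mixed lemma. -/
theorem exists_fpf_prime [Nontrivial F] (h : Hyp φ) (hB : Nontrivial B) :
    ∃ q : ℕ, q.Prime ∧ q ≠ 2 ∧ (Nat.card F).Coprime q ∧ q ∣ Nat.card B ∧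
      (∀ w : B, w ^ q = 1 → w ≠ 1 → fixBy φ w = ⊥) ∧
      (∀ R : Subgroup B, IsPGroup q R → IsCyclic R) := by
  classical
  have hne : commutator B ≠ ⊤ := (h.solvable.commutator_lt_top_of_nontrivial (G := B)).ne
  obtain ⟨q, hq, Q, hQ⟩ : ∃ q, ∃ _ : Fact q.Prime, ∃ Q : Sylow q B, ¬ (Q : Subgroup B) ≤ commutator B := by
    by_contra hall
    push Not at hall
    exact hne (Cores.eq_top_of_sylow_le fun p hp P => hall p hp P)
  have hqd : q ∣ Nat.card B := by
    refine (PGroups.dvd_card_of_ne_bot Q.isPGroup' (H := ⊤) ?_).trans ?_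
    · intro hb
      refine hQ fun x hx => ?_
      have : (⟨x, hx⟩ : (Q : Subgroup B)) ∈ (⊤ : Subgroup (Q : Subgroup B)) := mem_top _
      rw [hb, mem_bot] at this
      rw [show x = 1 from congrArg Subtype.val this]
      exact one_mem _
    · rw [card_top]; exact card_subgroup_dvd_card _
  obtain ⟨w₀, hw₀⟩ := exists_prime_orderOf_dvd_card' (G := B) q hqd
  have hw₀q : w₀ ^ q = 1 := hw₀ ▸ pow_orderOf_eq_one w₀
  have hw₀1 : w₀ ≠ 1 := fun he => hq.out.ne_one (by rw [← hw₀, he, orderOf_one])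
  have hall : ∀ w : B, w ^ q = 1 → w ≠ 1 → fixBy φ w = ⊥ := by
    intro w hwq hw1
    obtain ⟨n, -, hn⟩ := (Nat.dvd_prime_pow hq.out).mp
      (show orderOf w ∣ q ^ 1 by rw [pow_one]; exact orderOf_dvd_of_pow_eq_one hwq)
    obtain ⟨Q', hQ'⟩ := (IsPGroup.of_card (show Nat.card (zpowers w) = q ^ n by
      rw [Nat.card_zpowers, hn])).exists_le_sylow
    refine not_good_of_pow h Q' ?_ (hQ' (mem_zpowers w)) hwq hw1
    intro hQc
    refine hQ fun x hx => ?_
    obtain ⟨g, rfl⟩ := MulAction.exists_smul_eq B Q Q'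
    have h1 : g * x * g⁻¹ ∈ commutator B := hQc ⟨x, hx, rfl⟩
    simpa [mul_assoc] using (commNormal (B := B)).conj_mem _ h1 g⁻¹
  refine ⟨q, hq.out, prime_ne_two h hw₀q hw₀1, coprime_of_fpf φ hw₀q (hall _ hw₀q hw₀1), hqd, hall,
    fun R hR => ?_⟩
  by_contra hnc
  obtain ⟨E, -, hEc, hEq, hEcard⟩ :=
    PGroups.exists_normal_elementary_sq hR (prime_ne_two h hw₀q hw₀1) hnc
  obtain ⟨e, heE, he1⟩ := (bot_or_exists_ne_one E).resolve_left (fun hb => by
    rw [hb, card_bot] at hEcard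
    exact absurd hEcard.symm (Nat.one_lt_pow two_ne_zero hq.out.one_lt).ne')
  obtain ⟨y, hyE, hye⟩ : ∃ y ∈ E, y ∉ zpowers e := by
    by_contra hall'
    push Not at hall'
    have h2 := card_le_of_le (show E ≤ zpowers e from hall')
    rw [hEcard, Nat.card_zpowers, orderOf_eq_prime (hEq e heE) he1] at h2
    nlinarith [hq.out.two_le]
  have hc : Commute (y : B) e := congrArg Subtype.val
    (show y * e = e * y from congrArg Subtype.val (hEc.is_comm.comm ⟨y, hyE⟩ ⟨e, heE⟩))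
  have hf : ∀ u : R, u ∈ E → u ≠ 1 → fixBy φ (u : B) = ⊥ := fun u hu hu1 =>
    hall u (by rw [← SubmonoidClass.coe_pow, hEq u hu]; rfl) (fun hh => hu1 (Subtype.ext hh))
  obtain ⟨k, hk⟩ := exists_good_line (φ := φ) (e := (e : B)) (w := (y : B))
    (by rw [← SubmonoidClass.coe_pow, hEq e heE]; rfl) (by rw [← SubmonoidClass.coe_pow, hEq y hyE]; rfl)
    hc (hf e heE he1) (hf y hyE fun hh => hye (hh ▸ one_mem _))
  refine hk ?_
  have h1 : (y : B) * zpw q (e : B) k = ((y * e ^ k.val : R) : B) := by simp [zpw]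
  rw [h1]
  refine hf _ (E.mul_mem hyE (pow_mem heE _)) fun hh => hye ?_
  rw [eq_inv_of_mul_eq_one_left hh]
  exact inv_mem (npow_mem_zpowers e _)

end Cfsg.Agent.Bridge.BLemma
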